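/-
Involutions on the diagram of Fi24: products of two of them are commutators of such products.
Main results: `CoxOn`, `CoxOn.pair_mem_commutator`, `even_word_mem`.
-/
import Cfsg.Agent.Lib.FiTwentyFour.Table
import Mathlib

set_option autoImplicit false

namespace Cfsg.Agent.FiTwentyFourCover

open Cfsg.Agent.FiTwentyFour (lab24 ev)
open scoped commutatorElement

variable {E : Type*} [Group E]

/-- A product of two braiding involutions is a commutator with a third one commuting with both. -/
theorem mul_eq_commutator {x y e : E} (hx : x * x = 1) (hy : y * y = 1) (he : e * e = 1) (cxe : Commute x e)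
    (cye : Commute y e) (br : (x * y) ^ 3 = 1) : ⁅x * e, x * y⁆ = x * y := by
  have h1 : x * e * (x * y) * (x * e)⁻¹ = y * x := by
    rw [mul_inv_rev, inv_eq_of_mul_eq_one_right he, inv_eq_of_mul_eq_one_right hx]
    calc x * e * (x * y) * (e * x) = x * (e * x) * (y * e) * x := by group
      _ = x * (x * e) * (e * y) * x := by rw [cxe.eq, cye.eq]
      _ = (x * x) * (e * e) * y * x := by group
      _ = y * x := by rw [hx, he, one_mul, one_mul]
  rw [commutatorElement_def, h1, mul_inv_rev, inv_eq_of_mul_eq_one_right hx, inv_eq_of_mul_eq_one_right hy]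
  have h2 : x * y * (x * y) * (x * y) = 1 := by rw [← br, pow_succ, pow_two]
  have h3 : y * x * (y * x) = ((x * y) * (x * y))⁻¹ := by
    rw [mul_inv_rev, mul_inv_rev, inv_eq_of_mul_eq_one_right hx, inv_eq_of_mul_eq_one_right hy]
  rw [h3, inv_eq_of_mul_eq_one_right h2]

/-- The Coxeter relations on the letters from `lo`. -/
structure CoxOn (el : ℕ → E) (lo : ℕ) : Prop where
  pow : ∀ a b, lo ≤ a → a < 12 → lo ≤ b → b < 12 → (el a * el b) ^ lab24 a b = 1

variable {el : ℕ → E} {lo : ℕ}

theorem CoxOn.sq (h : CoxOn el lo) {a : ℕ} (h1 : lo ≤ a) (h2 : a < 12) : el a * el a = 1 := by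
  simpa [lab24] using h.pow a a h1 h2 h1 h2

theorem CoxOn.comm (h : CoxOn el lo) {a b : ℕ} (h1 : lo ≤ a) (h2 : a < 12) (h3 : lo ≤ b) (h4 : b < 12)
    (hl : lab24 a b = 2) : Commute (el a) (el b) := by
  have := h.pow a b h1 h2 h3 h4
  rw [hl, pow_two] at this
  have e := eq_inv_of_mul_eq_one_left this
  rw [mul_inv_rev, inv_eq_of_mul_eq_one_right (h.sq h1 h2), inv_eq_of_mul_eq_one_right (h.sq h3 h4)] at e
  exact e

theorem CoxOn.mono (h : CoxOn el lo) {lo' : ℕ} (hle : lo ≤ lo') : CoxOn el lo' :=
  ⟨fun a b h1 h2 h3 h4 => h.pow a b (le_trans hle h1) h2 (le_trans hle h3) h4⟩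

/-- For each edge a letter commuting with both ends. -/
theorem exists_third {lo a b : ℕ} (hlo : lo ≤ 3) (h1 : lo ≤ a) (ha : a < 12) (h3 : lo ≤ b) (hb : b < 12)
    (hl : lab24 a b = 3) : ∃ e, lo ≤ e ∧ e < 12 ∧ lab24 a e = 2 ∧ lab24 b e = 2 := by
  have key : ((List.range 12).all fun a => (List.range 12).all fun b => !Nat.beq (lab24 a b) 3 ||
      (List.range 12).any fun e => Nat.ble 3 e && (Nat.beq (lab24 a e) 2 && Nat.beq (lab24 b e) 2)) = true := by
    decide +kernel
  simp only [List.all_eq_true, List.mem_range, Bool.or_eq_true, Bool.not_eq_true', List.any_eq_true,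
    Bool.and_eq_true, Nat.ble_eq] at key
  rcases key a ha b hb with h | ⟨e, he, h3e, h4, h5⟩
  · rw [hl] at h; exact absurd h (by decide)
  · exact ⟨e, le_trans hlo h3e, he, Nat.eq_of_beq_eq_true h4, Nat.eq_of_beq_eq_true h5⟩

/-- Products of adjacent letters give all products of two letters. -/
theorem CoxOn.pairs (h : CoxOn el lo) (hlo : lo ≤ 3) (D : Subgroup E)
    (hadj : ∀ a b, lo ≤ a → a < 12 → lo ≤ b → b < 12 → lab24 a b = 3 → el a * el b ∈ D) :
    ∀ a b, lo ≤ a → a < 12 → lo ≤ b → b < 12 → el a * el b ∈ D := by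
  have step : ∀ a b, lo ≤ a → a < 12 → lo ≤ b → b < 12 → lab24 a b = 3 → el b * el 5 ∈ D → el a * el 5 ∈ D :=
    fun a b h1 h2 h3 h4 hl hb => by
      have := mul_mem (hadj a b h1 h2 h3 h4 hl) hb
      rwa [mul_assoc, ← mul_assoc (el b), h.sq h3 h4, one_mul] at this
  have h5 : el 5 * el 5 ∈ D := by rw [h.sq (by omega) (by norm_num)]; exact one_mem D
  have h4 := step 4 5 (by omega) (by norm_num) (by omega) (by norm_num) (by decide) h5
  have h6 := step 6 5 (by omega) (by norm_num) (by omega) (by norm_num) (by decide) h5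
  have h10 := step 10 5 (by omega) (by norm_num) (by omega) (by norm_num) (by decide) h5
  have h11 := step 11 10 (by omega) (by norm_num) (by omega) (by norm_num) (by decide) h10
  have h7 := step 7 6 (by omega) (by norm_num) (by omega) (by norm_num) (by decide) h6
  have h8 := step 8 7 (by omega) (by norm_num) (by omega) (by norm_num) (by decide) h7
  have h9 := step 9 8 (by omega) (by norm_num) (by omega) (by norm_num) (by decide) h8
  have h3 := step 3 4 hlo (by norm_num) (by omega) (by norm_num) (by decide) h4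
  have to5 : ∀ a, lo ≤ a → a < 12 → el a * el 5 ∈ D := by
    intro a h1 h2
    interval_cases a
    · exact step 0 1 h1 h2 (by omega) (by norm_num) (by decide) (step 1 2 (by omega) (by norm_num) (by omega)
        (by norm_num) (by decide) (step 2 3 (by omega) (by norm_num) hlo (by norm_num) (by decide) h3))
    · exact step 1 2 h1 h2 (by omega) (by norm_num) (by decide)
        (step 2 3 (by omega) (by norm_num) hlo (by norm_num) (by decide) h3)
    · exact step 2 3 h1 h2 hlo (by norm_num) (by decide) h3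
    all_goals assumption
  intro a b h1 h2 h3' h4'
  have hsymm : el 5 * el b ∈ D := by
    have := inv_mem (to5 b h3' h4')
    rwa [mul_inv_rev, inv_eq_of_mul_eq_one_right (h.sq (by omega : lo ≤ 5) (by norm_num)),
      inv_eq_of_mul_eq_one_right (h.sq h3' h4')] at this
  have := mul_mem (to5 a h1 h2) hsymm
  rwa [mul_assoc, ← mul_assoc (el 5), h.sq (by omega) (by norm_num), one_mul] at this

/-- Products of two letters are products of commutators of such products. -/
theorem CoxOn.pair_mem_commutator (h : CoxOn el lo) (hlo : lo ≤ 3) (P : Subgroup E)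
    (hP : ∀ a b, lo ≤ a → a < 12 → lo ≤ b → b < 12 → el a * el b ∈ P) :
    ∀ a b, lo ≤ a → a < 12 → lo ≤ b → b < 12 → el a * el b ∈ ⁅P, P⁆ := by
  refine h.pairs hlo _ fun a b h1 h2 h3 h4 hl => ?_
  obtain ⟨e, he, he', hae, hbe⟩ := exists_third hlo h1 h2 h3 h4 hl
  rw [← mul_eq_commutator (h.sq h1 h2) (h.sq h3 h4) (h.sq he he') (h.comm h1 h2 he he' hae)
    (h.comm h3 h4 he he' hbe) (hl ▸ h.pow a b h1 h2 h3 h4)]
  exact Subgroup.commutator_mem_commutator (hP a e h1 h2 he he') (hP a b h1 h2 h3 h4)

/-- Words of even length lie where all products of two letters do. -/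
theorem even_word_mem (D : Subgroup E) (hD : ∀ a b, lo ≤ a → a < 12 → lo ≤ b → b < 12 → el a * el b ∈ D) :
    ∀ v : List ℕ, (∀ a ∈ v, lo ≤ a ∧ a < 12) → Even v.length → ev el v ∈ D
  | [], _, _ => one_mem D
  | [a], _, h => by simp at h
  | a :: b :: v, hv, h => by
    show ev el v * el b * el a ∈ D
    rw [mul_assoc]
    have hb := hv b (List.mem_cons_of_mem _ List.mem_cons_self)
    have ha := hv a List.mem_cons_self
    refine mul_mem (even_word_mem D hD v (fun c hc => hv c (List.mem_cons_of_mem _ (List.mem_cons_of_mem _ hc))) ?_)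
      (hD b a hb.1 hb.2 ha.1 ha.2)
    simpa [Nat.even_add_one] using h

end Cfsg.Agent.FiTwentyFourCover
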