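/-
A finite extension of Fi24 with kernel central in the preimage of the even elements: the involution above the first
generator has a centraliser that splits.
Main definitions and results: `Ext`, `Ext.S`, `Ext.sec_ext`, `Ext.exists_lift`, `Ext.P0_perfect`.
-/
import Cfsg.Agent.Lib.FiTwentyFour.Group
import Cfsg.Agent.Lib.FiTwentyFourCover.Even
import Cfsg.Agent.Lib.CoxStem.Fi23
import Cfsg.Prelude.Def_KGroupFacts

set_option autoImplicit false
set_option maxRecDepth 10000

namespace Cfsg.Agent.FiTwentyFourCover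

open Cfsg.Agent.FiTwentyFour
open Cfsg.Agent.FischerExist (Gen24 hsub)
open scoped commutatorElement

noncomputable section

/-- The preimage of the even elements. -/
def evenPart {E : Type} [Group E] (π : E →* G24) : Subgroup E := (sign24.comp π).ker

theorem mem_evenPart {E : Type} [Group E] {π : E →* G24} {x : E} : x ∈ evenPart π ↔ sign24 (π x) = 1 :=
  MonoidHom.mem_ker

/-- An extension with a chosen involution above the first generator. -/
structure Ext (E : Type) [Group E] where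
  π : E →* G24
  τ : E
  surj : Function.Surjective π
  central : ∀ k, π k = 1 → ∀ d ∈ evenPart π, Commute k d
  perfect : evenPart π ≤ ⁅evenPart π, evenPart π⁆
  τ_sq : τ * τ = 1
  τ_map : π τ = x24 0

namespace Ext

variable {E : Type} [Group E] (X : Ext E)

theorem kernel_even {k : E} (hk : X.π k = 1) : k ∈ evenPart X.π := by rw [mem_evenPart, hk, map_one]

theorem kernel_comm {k k' : E} (hk : X.π k = 1) (hk' : X.π k' = 1) : Commute k k' :=
  X.central k hk k' (X.kernel_even hk')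

/-- Commutators of even elements do not see the kernel. -/
theorem commutator_congr {p q p' q' : E} (hp : p ∈ evenPart X.π) (hq : q ∈ evenPart X.π) (hp' : X.π p' = X.π p)
    (hq' : X.π q' = X.π q) : ⁅p', q'⁆ = ⁅p, q⁆ := by
  obtain ⟨k, rfl⟩ : ∃ k, p' = k * p := ⟨p' * p⁻¹, by group⟩
  obtain ⟨l, rfl⟩ : ∃ l, q' = l * q := ⟨q' * q⁻¹, by group⟩
  have hk : X.π k = 1 := by simpa using hp'
  have hl : X.π l = 1 := by simpa using hq'
  have c1 : ∀ d ∈ evenPart X.π, Commute k d := X.central k hk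
  have c2 : ∀ d ∈ evenPart X.π, Commute l d := X.central l hl
  have e1 : l * q * p⁻¹ = q * p⁻¹ * l := by
    rw [mul_assoc]; exact (c2 _ (mul_mem hq (inv_mem hp))).eq
  calc ⁅k * p, l * q⁆ = k * (p * (l * q) * p⁻¹) * k⁻¹ * (l * q)⁻¹ := by rw [commutatorElement_def]; group
    _ = (p * (l * q) * p⁻¹) * (l * q)⁻¹ := by
      rw [(c1 _ (mul_mem (mul_mem hp (mul_mem (X.kernel_even hl) hq)) (inv_mem hp))).eq, mul_inv_cancel_right]
    _ = p * (l * q * p⁻¹) * q⁻¹ * l⁻¹ := by group
    _ = p * (q * p⁻¹ * l) * q⁻¹ * l⁻¹ := by rw [e1]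
    _ = p * q * p⁻¹ * (l * q⁻¹) * l⁻¹ := by group
    _ = ⁅p, q⁆ := by rw [(c2 _ (inv_mem hq)).eq, commutatorElement_def]; group

/-- The even elements fixing the first generator, in the extension. -/
def Q : Subgroup E := (H24.comap X.π) ⊓ evenPart X.π

/-- The perfect part of the centraliser. -/
def P0 : Subgroup E := ⁅X.Q, X.Q⁆

theorem Q_even : X.Q ≤ evenPart X.π := inf_le_right

theorem P0_le : X.P0 ≤ X.Q := by
  rw [P0, Subgroup.commutator_le]
  intro p hp q hq
  rw [commutatorElement_def]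
  exact mul_mem (mul_mem (mul_mem hp hq) (inv_mem hp)) (inv_mem hq)

theorem hsub_comm {g : G24} (hg : g ∈ H24) : Commute (x24 0) g :=
  gen24_x.first_comm (hsub_eq.symm ▸ hg)

/-- The chosen involution centralises the perfect part. -/
theorem τ_comm {x : E} (hx : x ∈ X.P0) : Commute X.τ x := by
  suffices h : X.P0 ≤ Subgroup.centralizer {X.τ} from (Subgroup.mem_centralizer_singleton_iff.1 (h hx)).symm
  rw [P0, Subgroup.commutator_le]
  intro p hp q hq
  rw [Subgroup.mem_centralizer_singleton_iff]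
  have key : ∀ y ∈ X.Q, X.π (X.τ * y * X.τ⁻¹) = X.π y := by
    intro y hy
    rw [map_mul, map_mul, map_inv, X.τ_map, (hsub_comm (Subgroup.mem_inf.1 hy).1).eq, mul_inv_cancel_right]
  have h : X.τ * ⁅p, q⁆ * X.τ⁻¹ = ⁅p, q⁆ := by
    rw [show X.τ * ⁅p, q⁆ * X.τ⁻¹ = ⁅X.τ * p * X.τ⁻¹, X.τ * q * X.τ⁻¹⁆ by
      simp only [commutatorElement_def]; group]
    exact X.commutator_congr (X.Q_even hp) (X.Q_even hq) (key p hp) (key q hq)
  exact (mul_inv_eq_iff_eq_mul.mp h).symm

theorem pair_sign (a b : ℕ) : sign24 (x24 a * x24 b) = 1 := MonoidHom.mem_ker.1 pair_mem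

/-- The map of the perfect part onto Fi23. -/
def toFi23 : ↥X.P0 →* CosetEnum.fi23Setup.G :=
  gen24_x.toFi23.comp ((X.π.comp X.P0.subtype).codRestrict (hsub x24) fun p =>
    hsub_eq.symm ▸ (Subgroup.mem_inf.1 (X.P0_le p.2)).1)

theorem pair_image {a b : ℕ} (h1 : 2 ≤ a) (ha : a < 12) (h3 : 2 ≤ b) (hb : b < 12) :
    x24 a * x24 b ∈ X.P0.map X.π := by
  have cox : CoxOn x24 2 := ⟨fun a b _ ha _ hb => x24_pow ha hb⟩
  have h := cox.pair_mem_commutator (by norm_num) (X.Q.map X.π) (fun c d hc hc' hd hd' => ?_) a b h1 ha h3 hb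
  · rwa [← Subgroup.map_commutator] at h
  · obtain ⟨y, hy⟩ := X.surj (x24 c * x24 d)
    refine ⟨y, Subgroup.mem_inf.2 ⟨?_, ?_⟩, hy⟩
    · rw [Subgroup.mem_comap, hy]
      exact mul_mem (x24_mem hc' (by omega)) (x24_mem hd' (by omega))
    · rw [mem_evenPart, hy]; exact pair_sign c d

/-- Every even element fixing the first generator lifts to the perfect part. -/
theorem map_P0 {g : G24} (hg : g ∈ H24) (hs : sign24 g = 1) : g ∈ X.P0.map X.π := by
  have main : ∀ g ∈ hsub x24, (sign24 g = 1 ∧ g ∈ X.P0.map X.π) ∨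
      (sign24 g = -1 ∧ g * x24 2 ∈ X.P0.map X.π ∧ x24 2 * g ∈ X.P0.map X.π) := by
    intro g hg
    have h22 : x24 2 * x24 2 = 1 := x24_sq (by norm_num)
    have hconj : ∀ y ∈ X.P0.map X.π, x24 2 * y * x24 2 ∈ X.P0.map X.π := by
      rintro _ ⟨p, hp, rfl⟩
      obtain ⟨t, ht⟩ := X.surj (x24 2)
      refine ⟨t * p * t⁻¹, ?_, by rw [map_mul, map_mul, map_inv, ht, inv_eq_of_mul_eq_one_right h22]⟩
      have hnorm : ∀ y ∈ X.Q, t * y * t⁻¹ ∈ X.Q := by
        intro y hy
        obtain ⟨hy1, hy2⟩ := Subgroup.mem_inf.1 hy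
        refine Subgroup.mem_inf.2 ⟨?_, ?_⟩
        · rw [Subgroup.mem_comap, map_mul, map_mul, map_inv, ht]
          exact mul_mem (mul_mem (x24_mem (by norm_num) (by norm_num)) hy1)
            (inv_mem (x24_mem (by norm_num) (by norm_num)))
        · rw [mem_evenPart, map_mul, map_mul, map_inv, map_mul, map_mul, map_inv, mem_evenPart.1 hy2, mul_one,
            mul_inv_cancel]
      have hle : X.P0 ≤ X.P0.comap (MulAut.conj t).toMonoidHom := by
        conv_lhs => rw [P0]
        rw [Subgroup.commutator_le]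
        intro u hu v hv
        rw [Subgroup.mem_comap, map_commutatorElement]
        exact Subgroup.commutator_mem_commutator (hnorm u hu) (hnorm v hv)
      exact hle hp
    induction hg using Subgroup.closure_induction with
    | mem x hx =>
      obtain ⟨a, ⟨h2, ha⟩, rfl⟩ := hx
      exact Or.inr ⟨sign24_x a, X.pair_image h2 ha le_rfl (by norm_num), X.pair_image le_rfl (by norm_num) h2 ha⟩
    | one => exact Or.inl ⟨map_one _, one_mem _⟩
    | mul x y _ _ hx hy =>
      rcases hx with ⟨sx, hx⟩ | ⟨sx, hx, hx'⟩ <;> rcases hy with ⟨sy, hy⟩ | ⟨sy, hy, hy'⟩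
      · exact Or.inl ⟨by rw [map_mul, sx, sy, one_mul], mul_mem hx hy⟩
      · refine Or.inr ⟨by rw [map_mul, sx, sy, one_mul], by rw [mul_assoc]; exact mul_mem hx hy, ?_⟩
        have := mul_mem (hconj x hx) hy'
        rwa [show x24 2 * x * x24 2 * (x24 2 * y) = x24 2 * x * (x24 2 * x24 2) * y by group, h22, mul_one,
          mul_assoc] at this
      · refine Or.inr ⟨by rw [map_mul, sx, sy, mul_one], ?_, by rw [← mul_assoc]; exact mul_mem hx' hy⟩
        have := mul_mem hx (hconj y hy)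
        rwa [show x * x24 2 * (x24 2 * y * x24 2) = x * (x24 2 * x24 2) * y * x24 2 by group, h22, mul_one] at this
      · refine Or.inl ⟨by rw [map_mul, sx, sy]; rfl, ?_⟩
        have := mul_mem hx hy'
        rwa [show x * x24 2 * (x24 2 * y) = x * (x24 2 * x24 2) * y by group, h22, mul_one] at this
    | inv x _ hx =>
      rcases hx with ⟨sx, hx⟩ | ⟨sx, hx, hx'⟩
      · exact Or.inl ⟨by rw [map_inv, sx, inv_one], inv_mem hx⟩
      · refine Or.inr ⟨by rw [map_inv, sx]; rfl, ?_, ?_⟩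
        · have := inv_mem hx'
          rwa [mul_inv_rev, inv_eq_of_mul_eq_one_right h22] at this
        · have := inv_mem hx
          rwa [mul_inv_rev, inv_eq_of_mul_eq_one_right h22] at this
  rcases main g (hsub_eq.symm ▸ hg) with ⟨-, h⟩ | ⟨h, -⟩
  · exact h
  · rw [hs] at h; exact absurd h (by decide)

theorem P0_perfect : X.P0 ≤ ⁅X.P0, X.P0⁆ := by
  conv_lhs => rw [P0]
  rw [Subgroup.commutator_le]
  intro p hp q hq
  obtain ⟨p', hp', ep⟩ := X.map_P0 (Subgroup.mem_inf.1 hp).1 (mem_evenPart.1 (X.Q_even hp))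
  obtain ⟨q', hq', eq'⟩ := X.map_P0 (Subgroup.mem_inf.1 hq).1 (mem_evenPart.1 (X.Q_even hq))
  rw [← X.commutator_congr (X.Q_even hp) (X.Q_even hq) ep eq']
  exact Subgroup.commutator_mem_commutator hp' hq'

/-- The perfect part maps injectively. -/
theorem P0_inj [Finite E] {x : E} (hx : x ∈ X.P0) (h1 : X.π x = 1) : x = 1 := by
  have hker : ∀ p : ↥X.P0, X.toFi23 p = 1 → X.π (p : E) = 1 := by
    intro p hp
    have h : gen24_x.toFi23 ⟨X.π (p : E), hsub_eq.symm ▸ (Subgroup.mem_inf.1 (X.P0_le p.2)).1⟩ = 1 := hp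
    rw [← MonoidHom.mem_ker, gen24_x.toFi23_ker_zsub] at h
    rcases gen24_x.mem_zsub h with h' | h'
    · exact h'
    · have hs : sign24 (X.π (p : E)) = 1 := mem_evenPart.1 (X.Q_even (X.P0_le p.2))
      rw [show X.π (p : E) = x24 0 from h', sign24_x] at hs
      exact absurd hs (by decide)
  have hsurj : Function.Surjective X.toFi23 := by
    intro y
    obtain ⟨⟨g, hg⟩, rfl⟩ := gen24_x.toFi23_surj y
    rcases Int.units_eq_one_or (sign24 g) with hs | hs
    · obtain ⟨p, hp, e⟩ := X.map_P0 (hsub_eq ▸ hg) hs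
      exact ⟨⟨p, hp⟩, congrArg gen24_x.toFi23 (Subtype.ext e)⟩
    · obtain ⟨p, hp, e⟩ := X.map_P0 (g := x24 0 * g)
        (hsub_eq ▸ mul_mem gen24_x.first_mem hg) (by rw [map_mul, hs, sign24_x]; decide)
      refine ⟨⟨p, hp⟩, ?_⟩
      have h0 : gen24_x.toFi23 gen24_x.first = 1 := by
        rw [← MonoidHom.mem_ker, gen24_x.toFi23_ker_zsub]
        exact Subgroup.mem_zpowers _
      calc gen24_x.toFi23 ⟨X.π p, _⟩ = gen24_x.toFi23 (gen24_x.first * ⟨g, hg⟩) :=
            congrArg gen24_x.toFi23 (Subtype.ext e)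
        _ = gen24_x.toFi23 ⟨g, hg⟩ := by rw [map_mul, h0, one_mul]
  have hstem : Cfsg.IsStemExtension X.toFi23 := by
    refine ⟨hsurj, fun p hp => Subgroup.mem_center_iff.2 fun q => Subtype.ext ?_, fun p _ => ?_⟩
    · exact (X.central _ (hker p (MonoidHom.mem_ker.1 hp)) _ (X.Q_even (X.P0_le q.2))).eq.symm
    · have h : (⊤ : Subgroup ↥X.P0).map X.P0.subtype ≤ (commutator ↥X.P0).map X.P0.subtype := by
        rw [commutator_def, Subgroup.map_commutator, ← MonoidHom.range_eq_map, Subgroup.range_subtype]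
        exact X.P0_perfect
      obtain ⟨q, hq, e⟩ := h ⟨p, trivial, rfl⟩
      rwa [show p = q from (Subtype.ext e).symm]
  have hk := CoxStem.fi23_ker_eq_bot X.toFi23 hstem
  have hmem : (⟨x, hx⟩ : ↥X.P0) ∈ X.toFi23.ker := by
    rw [MonoidHom.mem_ker]
    have : (⟨X.π x, hsub_eq.symm ▸ (Subgroup.mem_inf.1 (X.P0_le hx)).1⟩ : ↥(hsub x24)) = 1 := Subtype.ext h1
    exact (congrArg gen24_x.toFi23 this).trans (map_one _)
  exact congrArg Subtype.val (Subgroup.mem_bot.1 ((SetLike.ext_iff.mp hk _).mp hmem))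

/-- The split centraliser: the perfect part times the chosen involution. -/
def S : Subgroup E where
  carrier := {x | x ∈ X.P0 ∨ X.τ * x ∈ X.P0}
  one_mem' := Or.inl (one_mem _)
  inv_mem' := by
    rintro x (h | h)
    · exact Or.inl (inv_mem h)
    · right
      have := inv_mem h
      rw [mul_inv_rev, inv_eq_of_mul_eq_one_right X.τ_sq] at this
      have hc := X.τ_comm this
      have e : X.τ * x⁻¹ = x⁻¹ * X.τ := by
        have h2 := hc.eq
        calc X.τ * x⁻¹ = X.τ * (x⁻¹ * X.τ) * X.τ := by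
              rw [← mul_assoc, mul_assoc (X.τ * x⁻¹), X.τ_sq, mul_one]
          _ = x⁻¹ * X.τ * X.τ * X.τ := by rw [h2]
          _ = x⁻¹ * X.τ := by rw [mul_assoc (x⁻¹ * X.τ), X.τ_sq, mul_one]
      rwa [e]
  mul_mem' := by
    intro x y hx hy
    have hτ : ∀ z, X.τ * (X.τ * z) = z := fun z => by rw [← mul_assoc, X.τ_sq, one_mul]
    rcases hx with hx | hx <;> rcases hy with hy | hy
    · exact Or.inl (mul_mem hx hy)
    · right
      rw [← mul_assoc, (X.τ_comm hx).eq, mul_assoc]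
      exact mul_mem hx hy
    · right
      rw [← mul_assoc]
      exact mul_mem hx hy
    · left
      have h2 := mul_mem hx hy
      rwa [← mul_assoc, ← (X.τ_comm hx).eq, hτ] at h2

theorem τ_mem_S : X.τ ∈ X.S := Or.inr (by rw [X.τ_sq]; exact one_mem _)

theorem P0_le_S : X.P0 ≤ X.S := fun _ h => Or.inl h

theorem sec_ext [Finite E] {x : E} (hx : x ∈ X.S) (h1 : X.π x = 1) : x = 1 := by
  rcases hx with hx | hx
  · exact X.P0_inj hx h1
  · have hs := mem_evenPart.1 (X.Q_even (X.P0_le hx))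
    rw [map_mul, X.τ_map, h1, mul_one, sign24_x] at hs
    exact absurd hs (by decide)

theorem S_comm {x : E} (hx : x ∈ X.S) : Commute X.τ x := by
  rcases hx with hx | hx
  · exact X.τ_comm hx
  · have h : Commute X.τ (X.τ * (X.τ * x)) := (Commute.refl X.τ).mul_right (X.τ_comm hx)
    rwa [← mul_assoc, X.τ_sq, one_mul] at h

/-- Every element fixing the first generator has a lift in the split centraliser. -/
theorem exists_lift {g : G24} (hg : g ∈ H24) : ∃ x ∈ X.S, X.π x = g := by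
  rcases Int.units_eq_one_or (sign24 g) with hs | hs
  · obtain ⟨p, hp, e⟩ := X.map_P0 hg hs
    exact ⟨p, Or.inl hp, e⟩
  · obtain ⟨p, hp, e⟩ := X.map_P0 (g := x24 0 * g) (mul_mem (x24_mem (by norm_num) (by norm_num)) hg)
      (by rw [map_mul, hs, sign24_x]; decide)
    refine ⟨X.τ * p, mul_mem X.τ_mem_S (Or.inl hp), ?_⟩
    rw [map_mul, X.τ_map, e, ← mul_assoc, x24_sq (by norm_num), one_mul]

end Ext

end

end Cfsg.Agent.FiTwentyFourCover
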