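/-
The exponents of `fixTwist` agree with the deductions in the table of Fi24.
-/
import Cfsg.Agent.Lib.FiTwentyFour.Table
import Cfsg.Agent.Lib.FiTwentyFour.Words
import Cfsg.Agent.Lib.FiTwentyFourCover.DataFix

set_option autoImplicit false
set_option maxRecDepth 100000
set_option Elab.async false

namespace Cfsg.Agent.FiTwentyFourCover

open Cfsg.Agent.FiTwentyFour (fi24c rest word24 relE7 relSpider relProd)

theorem fix_sym0 : fixTwist.symOK fi24c 0 = true := by decide +kernel

theorem fix_sel0 : (Nat.beq (Nat.land (fi24c.sel 0) (Nat.lor (fixTwist.pos 0) (fixTwist.neg 0))) 0 && !Cfsg.Agent.FiTwentyFour.bit (Nat.lor (fixTwist.pos 0) (fixTwist.neg 0)) 0) = true := by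
  decide +kernel

theorem fix_head0 : (([1, 2, 3, 4, 5, 6, 7, 8, 9, 10, 11] : List ℕ).all fun b => fixTwist.headZero fi24c 0 (rest 0 b)) = true := by
  decide +kernel

theorem fix_sym1 : fixTwist.symOK fi24c 1 = true := by decide +kernel

theorem fix_sel1 : (Nat.beq (Nat.land (fi24c.sel 1) (Nat.lor (fixTwist.pos 1) (fixTwist.neg 1))) 0) = true := by
  decide +kernel

theorem fix_head1 : (([0, 2, 3, 4, 5, 6, 7, 8, 9, 10, 11] : List ℕ).all fun b => fixTwist.headZero fi24c 1 (rest 1 b)) = true := by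
  decide +kernel

theorem fix_sym2 : fixTwist.symOK fi24c 2 = true := by decide +kernel

theorem fix_sel2 : (Nat.beq (Nat.land (fi24c.sel 2) (Nat.lor (fixTwist.pos 2) (fixTwist.neg 2))) 0 && !Cfsg.Agent.FiTwentyFour.bit (Nat.lor (fixTwist.pos 2) (fixTwist.neg 2)) 0) = true := by
  decide +kernel

theorem fix_head2 : (([0, 1, 3, 4, 5, 6, 7, 8, 9, 10, 11] : List ℕ).all fun b => fixTwist.headZero fi24c 2 (rest 2 b)) = true := by
  decide +kernel

theorem fix_sym3 : fixTwist.symOK fi24c 3 = true := by decide +kernel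

theorem fix_sel3 : (Nat.beq (Nat.land (fi24c.sel 3) (Nat.lor (fixTwist.pos 3) (fixTwist.neg 3))) 0 && !Cfsg.Agent.FiTwentyFour.bit (Nat.lor (fixTwist.pos 3) (fixTwist.neg 3)) 0) = true := by
  decide +kernel

theorem fix_head3 : (([0, 1, 2, 4, 5, 6, 7, 8, 9, 10, 11] : List ℕ).all fun b => fixTwist.headZero fi24c 3 (rest 3 b)) = true := by
  decide +kernel

theorem fix_sym4 : fixTwist.symOK fi24c 4 = true := by decide +kernel

theorem fix_sel4 : (Nat.beq (Nat.land (fi24c.sel 4) (Nat.lor (fixTwist.pos 4) (fixTwist.neg 4))) 0 && !Cfsg.Agent.FiTwentyFour.bit (Nat.lor (fixTwist.pos 4) (fixTwist.neg 4)) 0) = true := by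
  decide +kernel

theorem fix_head4 : (([0, 1, 2, 3, 5, 6, 7, 8, 9, 10, 11] : List ℕ).all fun b => fixTwist.headZero fi24c 4 (rest 4 b)) = true := by
  decide +kernel

theorem fix_sym5 : fixTwist.symOK fi24c 5 = true := by decide +kernel

theorem fix_sel5 : (Nat.beq (Nat.land (fi24c.sel 5) (Nat.lor (fixTwist.pos 5) (fixTwist.neg 5))) 0 && !Cfsg.Agent.FiTwentyFour.bit (Nat.lor (fixTwist.pos 5) (fixTwist.neg 5)) 0) = true := by
  decide +kernel

theorem fix_head5 : (([0, 1, 2, 3, 4, 6, 7, 8, 9, 10, 11] : List ℕ).all fun b => fixTwist.headZero fi24c 5 (rest 5 b)) = true := by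
  decide +kernel

theorem fix_sym6 : fixTwist.symOK fi24c 6 = true := by decide +kernel

theorem fix_sel6 : (Nat.beq (Nat.land (fi24c.sel 6) (Nat.lor (fixTwist.pos 6) (fixTwist.neg 6))) 0 && !Cfsg.Agent.FiTwentyFour.bit (Nat.lor (fixTwist.pos 6) (fixTwist.neg 6)) 0) = true := by
  decide +kernel

theorem fix_head6 : (([0, 1, 2, 3, 4, 5, 7, 8, 9, 10, 11] : List ℕ).all fun b => fixTwist.headZero fi24c 6 (rest 6 b)) = true := by
  decide +kernel

theorem fix_sym7 : fixTwist.symOK fi24c 7 = true := by decide +kernel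

theorem fix_sel7 : (Nat.beq (Nat.land (fi24c.sel 7) (Nat.lor (fixTwist.pos 7) (fixTwist.neg 7))) 0 && !Cfsg.Agent.FiTwentyFour.bit (Nat.lor (fixTwist.pos 7) (fixTwist.neg 7)) 0) = true := by
  decide +kernel

theorem fix_head7 : (([0, 1, 2, 3, 4, 5, 6, 8, 9, 10, 11] : List ℕ).all fun b => fixTwist.headZero fi24c 7 (rest 7 b)) = true := by
  decide +kernel

theorem fix_sym8 : fixTwist.symOK fi24c 8 = true := by decide +kernel

theorem fix_sel8 : (Nat.beq (Nat.land (fi24c.sel 8) (Nat.lor (fixTwist.pos 8) (fixTwist.neg 8))) 0 && !Cfsg.Agent.FiTwentyFour.bit (Nat.lor (fixTwist.pos 8) (fixTwist.neg 8)) 0) = true := by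
  decide +kernel

theorem fix_head8 : (([0, 1, 2, 3, 4, 5, 6, 7, 9, 10, 11] : List ℕ).all fun b => fixTwist.headZero fi24c 8 (rest 8 b)) = true := by
  decide +kernel

theorem fix_sym9 : fixTwist.symOK fi24c 9 = true := by decide +kernel

theorem fix_sel9 : (Nat.beq (Nat.land (fi24c.sel 9) (Nat.lor (fixTwist.pos 9) (fixTwist.neg 9))) 0 && !Cfsg.Agent.FiTwentyFour.bit (Nat.lor (fixTwist.pos 9) (fixTwist.neg 9)) 0) = true := by
  decide +kernel

theorem fix_head9 : (([0, 1, 2, 3, 4, 5, 6, 7, 8, 10, 11] : List ℕ).all fun b => fixTwist.headZero fi24c 9 (rest 9 b)) = true := by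
  decide +kernel

theorem fix_sym10 : fixTwist.symOK fi24c 10 = true := by decide +kernel

theorem fix_sel10 : (Nat.beq (Nat.land (fi24c.sel 10) (Nat.lor (fixTwist.pos 10) (fixTwist.neg 10))) 0 && !Cfsg.Agent.FiTwentyFour.bit (Nat.lor (fixTwist.pos 10) (fixTwist.neg 10)) 0) = true := by
  decide +kernel

theorem fix_head10 : (([0, 1, 2, 3, 4, 5, 6, 7, 8, 9, 11] : List ℕ).all fun b => fixTwist.headZero fi24c 10 (rest 10 b)) = true := by
  decide +kernel

theorem fix_sym11 : fixTwist.symOK fi24c 11 = true := by decide +kernel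

theorem fix_sel11 : (Nat.beq (Nat.land (fi24c.sel 11) (Nat.lor (fixTwist.pos 11) (fixTwist.neg 11))) 0 && !Cfsg.Agent.FiTwentyFour.bit (Nat.lor (fixTwist.pos 11) (fixTwist.neg 11)) 0) = true := by
  decide +kernel

theorem fix_head11 : (([0, 1, 2, 3, 4, 5, 6, 7, 8, 9, 10] : List ℕ).all fun b => fixTwist.headZero fi24c 11 (rest 11 b)) = true := by
  decide +kernel

theorem fix_point0 : fixTwist.sumIs fi24c (2 :: (relE7.rotate 42).tail) 347 0 0 = true := by decide +kernel

theorem fix_point1 : fixTwist.sumIs fi24c (3 :: (relSpider.rotate 42).tail) 3341 0 0 = true := by decide +kernel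

theorem fix_point2 : fixTwist.sumIs fi24c (10 :: (relE7.rotate 27).tail) 6437 0 0 = true := by decide +kernel

theorem fix_point3 : fixTwist.sumIs fi24c (7 :: (relE7.rotate 33).tail) 136210 0 0 = true := by decide +kernel

theorem fix_point4 : fixTwist.sumIs fi24c (7 :: (relSpider.rotate 39).tail) 45179 0 0 = true := by decide +kernel

theorem fix_point5 : fixTwist.sumIs fi24c (3 :: (relE7.rotate 29).tail) 195541 0 0 = true := by decide +kernel

theorem fix_point6 : fixTwist.sumIs fi24c (6 :: (((List.replicate 17 relProd).flatten).rotate 76).tail) 255099 1 0 = true := by decide +kernel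

theorem fix_loop : fixTwist.sumIs fi24c relE7 18896 1 0 = true := by decide +kernel

end Cfsg.Agent.FiTwentyFourCover
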