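/-
The exponents of `invTwist` agree with the deductions in the table of Fi24.
-/
import Cfsg.Agent.Lib.FiTwentyFour.Table
import Cfsg.Agent.Lib.FiTwentyFour.Words
import Cfsg.Agent.Lib.FiTwentyFourCover.DataInv

set_option autoImplicit false
set_option maxRecDepth 100000
set_option Elab.async false

namespace Cfsg.Agent.FiTwentyFourCover

open Cfsg.Agent.FiTwentyFour (fi24c rest word24 relE7 relSpider relProd)

theorem inv_sym0 : invTwist.symOK fi24c 0 = true := by decide +kernel

theorem inv_sel0 : (Nat.beq (Nat.land (fi24c.sel 0) (Nat.lor (invTwist.pos 0) (invTwist.neg 0))) 0 && !Cfsg.Agent.FiTwentyFour.bit (Nat.lor (invTwist.pos 0) (invTwist.neg 0)) 0) = true := by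
  decide +kernel

theorem inv_head0 : (([1, 2, 3, 4, 5, 6, 7, 8, 9, 10, 11] : List ℕ).all fun b => invTwist.headZero fi24c 0 (rest 0 b)) = true := by
  decide +kernel

theorem inv_sym1 : invTwist.symOK fi24c 1 = true := by decide +kernel

theorem inv_sel1 : (Nat.beq (Nat.land (fi24c.sel 1) (Nat.lor (invTwist.pos 1) (invTwist.neg 1))) 0) = true := by
  decide +kernel

theorem inv_head1 : (([0, 2, 3, 4, 5, 6, 7, 8, 9, 10, 11] : List ℕ).all fun b => invTwist.headZero fi24c 1 (rest 1 b)) = true := by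
  decide +kernel

theorem inv_sym2 : invTwist.symOK fi24c 2 = true := by decide +kernel

theorem inv_sel2 : (Nat.beq (Nat.land (fi24c.sel 2) (Nat.lor (invTwist.pos 2) (invTwist.neg 2))) 0 && !Cfsg.Agent.FiTwentyFour.bit (Nat.lor (invTwist.pos 2) (invTwist.neg 2)) 0) = true := by
  decide +kernel

theorem inv_head2 : (([0, 1, 3, 4, 5, 6, 7, 8, 9, 10, 11] : List ℕ).all fun b => invTwist.headZero fi24c 2 (rest 2 b)) = true := by
  decide +kernel

theorem inv_sym3 : invTwist.symOK fi24c 3 = true := by decide +kernel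

theorem inv_sel3 : (Nat.beq (Nat.land (fi24c.sel 3) (Nat.lor (invTwist.pos 3) (invTwist.neg 3))) 0 && !Cfsg.Agent.FiTwentyFour.bit (Nat.lor (invTwist.pos 3) (invTwist.neg 3)) 0) = true := by
  decide +kernel

theorem inv_head3 : (([0, 1, 2, 4, 5, 6, 7, 8, 9, 10, 11] : List ℕ).all fun b => invTwist.headZero fi24c 3 (rest 3 b)) = true := by
  decide +kernel

theorem inv_sym4 : invTwist.symOK fi24c 4 = true := by decide +kernel

theorem inv_sel4 : (Nat.beq (Nat.land (fi24c.sel 4) (Nat.lor (invTwist.pos 4) (invTwist.neg 4))) 0 && !Cfsg.Agent.FiTwentyFour.bit (Nat.lor (invTwist.pos 4) (invTwist.neg 4)) 0) = true := by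
  decide +kernel

theorem inv_head4 : (([0, 1, 2, 3, 5, 6, 7, 8, 9, 10, 11] : List ℕ).all fun b => invTwist.headZero fi24c 4 (rest 4 b)) = true := by
  decide +kernel

theorem inv_sym5 : invTwist.symOK fi24c 5 = true := by decide +kernel

theorem inv_sel5 : (Nat.beq (Nat.land (fi24c.sel 5) (Nat.lor (invTwist.pos 5) (invTwist.neg 5))) 0 && !Cfsg.Agent.FiTwentyFour.bit (Nat.lor (invTwist.pos 5) (invTwist.neg 5)) 0) = true := by
  decide +kernel

theorem inv_head5 : (([0, 1, 2, 3, 4, 6, 7, 8, 9, 10, 11] : List ℕ).all fun b => invTwist.headZero fi24c 5 (rest 5 b)) = true := by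
  decide +kernel

theorem inv_sym6 : invTwist.symOK fi24c 6 = true := by decide +kernel

theorem inv_sel6 : (Nat.beq (Nat.land (fi24c.sel 6) (Nat.lor (invTwist.pos 6) (invTwist.neg 6))) 0 && !Cfsg.Agent.FiTwentyFour.bit (Nat.lor (invTwist.pos 6) (invTwist.neg 6)) 0) = true := by
  decide +kernel

theorem inv_head6 : (([0, 1, 2, 3, 4, 5, 7, 8, 9, 10, 11] : List ℕ).all fun b => invTwist.headZero fi24c 6 (rest 6 b)) = true := by
  decide +kernel

theorem inv_sym7 : invTwist.symOK fi24c 7 = true := by decide +kernel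

theorem inv_sel7 : (Nat.beq (Nat.land (fi24c.sel 7) (Nat.lor (invTwist.pos 7) (invTwist.neg 7))) 0 && !Cfsg.Agent.FiTwentyFour.bit (Nat.lor (invTwist.pos 7) (invTwist.neg 7)) 0) = true := by
  decide +kernel

theorem inv_head7 : (([0, 1, 2, 3, 4, 5, 6, 8, 9, 10, 11] : List ℕ).all fun b => invTwist.headZero fi24c 7 (rest 7 b)) = true := by
  decide +kernel

theorem inv_sym8 : invTwist.symOK fi24c 8 = true := by decide +kernel

theorem inv_sel8 : (Nat.beq (Nat.land (fi24c.sel 8) (Nat.lor (invTwist.pos 8) (invTwist.neg 8))) 0 && !Cfsg.Agent.FiTwentyFour.bit (Nat.lor (invTwist.pos 8) (invTwist.neg 8)) 0) = true := by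
  decide +kernel

theorem inv_head8 : (([0, 1, 2, 3, 4, 5, 6, 7, 9, 10, 11] : List ℕ).all fun b => invTwist.headZero fi24c 8 (rest 8 b)) = true := by
  decide +kernel

theorem inv_sym9 : invTwist.symOK fi24c 9 = true := by decide +kernel

theorem inv_sel9 : (Nat.beq (Nat.land (fi24c.sel 9) (Nat.lor (invTwist.pos 9) (invTwist.neg 9))) 0 && !Cfsg.Agent.FiTwentyFour.bit (Nat.lor (invTwist.pos 9) (invTwist.neg 9)) 0) = true := by
  decide +kernel

theorem inv_head9 : (([0, 1, 2, 3, 4, 5, 6, 7, 8, 10, 11] : List ℕ).all fun b => invTwist.headZero fi24c 9 (rest 9 b)) = true := by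
  decide +kernel

theorem inv_sym10 : invTwist.symOK fi24c 10 = true := by decide +kernel

theorem inv_sel10 : (Nat.beq (Nat.land (fi24c.sel 10) (Nat.lor (invTwist.pos 10) (invTwist.neg 10))) 0 && !Cfsg.Agent.FiTwentyFour.bit (Nat.lor (invTwist.pos 10) (invTwist.neg 10)) 0) = true := by
  decide +kernel

theorem inv_head10 : (([0, 1, 2, 3, 4, 5, 6, 7, 8, 9, 11] : List ℕ).all fun b => invTwist.headZero fi24c 10 (rest 10 b)) = true := by
  decide +kernel

theorem inv_sym11 : invTwist.symOK fi24c 11 = true := by decide +kernel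

theorem inv_sel11 : (Nat.beq (Nat.land (fi24c.sel 11) (Nat.lor (invTwist.pos 11) (invTwist.neg 11))) 0 && !Cfsg.Agent.FiTwentyFour.bit (Nat.lor (invTwist.pos 11) (invTwist.neg 11)) 0) = true := by
  decide +kernel

theorem inv_head11 : (([0, 1, 2, 3, 4, 5, 6, 7, 8, 9, 10] : List ℕ).all fun b => invTwist.headZero fi24c 11 (rest 11 b)) = true := by
  decide +kernel

theorem inv_point0 : invTwist.sumIs fi24c (2 :: (relE7.rotate 42).tail) 347 0 0 = true := by decide +kernel

theorem inv_point1 : invTwist.sumIs fi24c (3 :: (relSpider.rotate 42).tail) 3341 0 0 = true := by decide +kernel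

theorem inv_point2 : invTwist.sumIs fi24c (10 :: (relE7.rotate 27).tail) 6437 0 0 = true := by decide +kernel

theorem inv_point3 : invTwist.sumIs fi24c (7 :: (relE7.rotate 33).tail) 136210 0 0 = true := by decide +kernel

theorem inv_point4 : invTwist.sumIs fi24c (7 :: (relSpider.rotate 39).tail) 45179 0 0 = true := by decide +kernel

theorem inv_point5 : invTwist.sumIs fi24c (3 :: (relE7.rotate 29).tail) 195541 0 0 = true := by decide +kernel

theorem inv_point6 : invTwist.sumIs fi24c (6 :: (((List.replicate 17 relProd).flatten).rotate 76).tail) 255099 1 0 = true := by decide +kernel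

theorem inv_loop : invTwist.sumIs fi24c (word24 0 1) 172160 3 0 = true := by decide +kernel

end Cfsg.Agent.FiTwentyFourCover
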