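/-
Exponents along a certified table: each edge carries -1, 0 or 1 in bit masks, and a word collects them with the sign
by which the letters act on the exponents.
Main results: `ev_path`, `just_of_loop`, `all_edges`, `headZero_spec`, `pointOK_spec`, `mod3_spec`.
-/
import Cfsg.Agent.Lib.FiTwentyFour.Cert

set_option autoImplicit false

namespace Cfsg.Agent.FiTwentyFourCover

open Cfsg.Agent.FiTwentyFour

/-- The masks of the edges with exponent 1 and -1, and whether the letters invert. -/
structure Twist where
  pos : ℕ → ℕ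
  neg : ℕ → ℕ
  inv : Bool

namespace Twist

variable (T : Twist) (C : Cert)

/-- The exponent of an edge. -/
noncomputable def kv (a i : ℕ) : ℤ := ((T.pos a).testBit i).toNat - ((T.neg a).testBit i).toNat

/-- The effect of one letter on an exponent. -/
def eps : ℤ := bif T.inv then -1 else 1

theorem eps_mul_self : T.eps * T.eps = 1 := by
  cases h : T.inv <;> simp [eps, h]

/-- The exponent along a word. -/
noncomputable def psum : List ℕ → ℕ → ℤ
  | [], _ => 0
  | b :: v, i => T.eps ^ v.length * T.kv b i + psum v (C.act b i)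

/-- Parity of a length. -/
noncomputable def oddLen (v : List ℕ) : Bool := List.rec (motive := fun _ => Bool) false (fun _ _ ih => !ih) v

/-- Whether the first letter of a word counts with the opposite sign. -/
noncomputable def flip (v : List ℕ) : Bool := T.inv && oddLen v

/-- The mask of the positions counted positively. -/
noncomputable def plus (v : List ℕ) (b : ℕ) : ℕ := bif T.flip v then T.neg b else T.pos b

/-- The mask of the positions counted negatively. -/
noncomputable def minus (v : List ℕ) (b : ℕ) : ℕ := bif T.flip v then T.pos b else T.neg b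

theorem oddLen_cons (b : ℕ) (v : List ℕ) : oddLen (b :: v) = !oddLen v := rfl

theorem eps_pow : ∀ v : List ℕ, T.eps ^ v.length = bif T.flip v then -1 else 1
  | [] => by simp [flip, oddLen]
  | b :: v => by
    rw [List.length_cons, pow_succ, eps_pow v, flip, flip, oddLen_cons]
    cases h : T.inv <;> cases oddLen v <;> simp [eps, h]

theorem step_eq (b : ℕ) (v : List ℕ) (i : ℕ) : T.eps ^ v.length * T.kv b i =
    ((T.plus v b).testBit i).toNat - ((T.minus v b).testBit i).toNat := by
  rw [T.eps_pow v, kv, plus, minus]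
  cases T.flip v <;> simp

variable {T C}

/-! ### Deductions -/

variable {E X : Type*} [Group E] [MulAction E X]

/-- The edge holds with its exponent. -/
def Edge (T : Twist) (C : Cert) (el : ℕ → E) (u : E) (φ : ℕ → X) (a i : ℕ) : Prop :=
  el a • φ i = u ^ T.kv a i • φ (C.act a i)

def Low (T : Twist) (C : Cert) (el : ℕ → E) (u : E) (φ : ℕ → X) (r : ℕ) : Prop :=
  ∀ j < C.n, ∀ b < C.k, C.rk b j < r → Edge T C el u φ b j

/-- The edge holds as soon as all edges of smaller rank do. -/
def Just (T : Twist) (C : Cert) (el : ℕ → E) (u : E) (φ : ℕ → X) (a i : ℕ) : Prop :=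
  Low T C el u φ (C.rk a i) → Edge T C el u φ a i

theorem ev_zpow {el : ℕ → E} {u : E} (hu : ∀ b < C.k, el b * u = u ^ T.eps * el b) (z : ℤ) :
    ∀ v : List ℕ, (∀ b ∈ v, b < C.k) → ev el v * u ^ z = u ^ (T.eps ^ v.length * z) * ev el v
  | [], _ => by simp [ev]
  | b :: v, hv => by
    have hb := hu b (hv b List.mem_cons_self)
    have h1 : el b * u ^ z = u ^ (T.eps * z) * el b := by
      have : (el b * u * (el b)⁻¹) ^ z = el b * u ^ z * (el b)⁻¹ := conj_zpow
      rw [hb, mul_inv_cancel_right, ← zpow_mul] at this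
      rw [this, inv_mul_cancel_right]
    show ev el v * el b * u ^ z = _ * (ev el v * el b)
    rw [mul_assoc, h1, ← mul_assoc, ev_zpow hu _ v fun c hc => hv c (List.mem_cons_of_mem b hc), List.length_cons,
      mul_assoc, pow_succ, mul_assoc (T.eps ^ v.length)]

theorem ev_path (hp : C.Perms) {el : ℕ → E} {u : E} (hu : ∀ b < C.k, el b * u = u ^ T.eps * el b) {φ : ℕ → X}
    {r : ℕ} (hlow : Low T C el u φ r) : ∀ (v : List ℕ), (∀ b ∈ v, b < C.k) → ∀ i < C.n, Cert.pathMax C v i < r →
      ev el v • φ i = u ^ T.psum C v i • φ (tw C.net v i)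
  | [], _, i, _, _ => by simp [ev, psum, tw_nil]
  | b :: v, hv, i, hi, hlt => by
    have hb := hv b List.mem_cons_self
    have hv' : ∀ c ∈ v, c < C.k := fun c hc => hv c (List.mem_cons_of_mem b hc)
    have h1 : C.rk b i < r := lt_of_le_of_lt (le_max_left _ _) hlt
    have h2 : Cert.pathMax C v (C.act b i) < r := lt_of_le_of_lt (le_max_right _ _) hlt
    rw [tw_cons, show ev el (b :: v) = ev el v * el b from rfl, mul_smul, hlow i hi b hb h1, ← mul_smul,
      ev_zpow hu _ v hv', mul_smul, ev_path hp hu hlow v hv' _ (hp.lt b hb i hi) h2, ← mul_smul, ← zpow_add]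
    rfl

theorem just_of_loop (hp : C.Perms) {el : ℕ → E} {u : E} (hu : ∀ b < C.k, el b * u = u ^ T.eps * el b)
    {φ : ℕ → X} {a i : ℕ} (ha : a < C.k) (hi : i < C.n) {v : List ℕ} (hv : ∀ b ∈ v, b < C.k)
    (hclosed : tw C.net (a :: v) i = i) {r : ℤ} (hfix : ev el (a :: v) • φ i = u ^ r • φ i)
    (hsum : T.psum C (a :: v) i = r) (hlt : Cert.pathMax C v (C.act a i) < C.rk a i) : Just T C el u φ a i := by
  intro hlow
  have hj := hp.lt a ha i hi
  have e := ev_path hp hu hlow v hv _ hj hlt
  rw [tw_cons] at hclosed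
  rw [show tw C.net v (C.act a i) = i from hclosed] at e
  rw [show ev el (a :: v) = ev el v * el a from rfl, mul_smul] at hfix
  refine MulAction.injective (ev el v) (hfix.trans ?_)
  show _ = ev el v • u ^ T.kv a i • φ (C.act a i)
  rw [← mul_smul (ev el v), ev_zpow hu _ v hv, mul_smul, e, ← mul_smul, ← zpow_add, ← hsum]
  rfl

theorem all_edges (hp : C.Perms) {el : ℕ → E} {u : E} (hu : ∀ b < C.k, el b * u = u ^ T.eps * el b) {φ : ℕ → X}
    (hel : ∀ a < C.k, el a * el a = 1) (hrk : ∀ a < C.k, ∀ i < C.n, C.rk a (C.act a i) = C.rk a i)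
    (hsym : ∀ a < C.k, ∀ i < C.n, C.act a i ≠ i → T.kv a (C.act a i) = -T.eps * T.kv a i)
    (hjust : ∀ a < C.k, ∀ i < C.n, Just T C el u φ a i ∨ Just T C el u φ a (C.act a i)) :
    ∀ a < C.k, ∀ i < C.n, Edge T C el u φ a i := by
  suffices H : ∀ r, ∀ j < C.n, ∀ b < C.k, C.rk b j < r → Edge T C el u φ b j from
    fun a ha i hi => H _ i hi a ha (Nat.lt_succ_self _)
  intro r
  induction r with
  | zero => intro j _ b _ h; exact absurd h (Nat.not_lt_zero _)
  | succ r ih =>
    intro j hj b hb h
    have hlow : ∀ s ≤ r, Low T C el u φ s := fun s hs j' hj' b' hb' h' => ih j' hj' b' hb' (lt_of_lt_of_le h' hs)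
    by_cases hfix : C.act b j = j
    · have h1 : Just T C el u φ b j := by
        rcases hjust b hb j hj with h1 | h1
        · exact h1
        · rwa [hfix] at h1
      exact h1 (hlow _ (Nat.lt_succ_iff.mp h))
    rcases hjust b hb j hj with h1 | h1
    · exact h1 (hlow _ (Nat.lt_succ_iff.mp h))
    · have e : Edge T C el u φ b (C.act b j) := h1 (hlow _ (by rw [hrk b hb j hj]; exact Nat.lt_succ_iff.mp h))
      unfold Edge at e ⊢
      rw [hp.inv b hb j hj] at e
      have e2 := congrArg (fun x => el b • x) e
      simp only [← mul_smul, hel b hb, one_smul] at e2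
      have hc := ev_zpow (el := el) hu (T.kv b (C.act b j)) [b] (by simpa using hb)
      simp only [ev, one_mul, List.length_singleton, pow_one] at hc
      rw [hc, mul_smul] at e2
      rw [e2]
      have h0 : T.kv b j + T.eps * (-T.eps * T.kv b j) = 0 := by
        rw [← mul_assoc, mul_neg, T.eps_mul_self]; ring
      rw [← mul_smul (u ^ T.kv b j), ← zpow_add, hsym b hb j hj hfix, h0, zpow_zero, one_smul]

end Twist

/-! ### Counters -/

/-- Add a bit to a vector, dropping the overflow. -/
noncomputable def addBit (X : List ℕ) : ℕ → List ℕ :=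
  List.rec (motive := fun _ => ℕ → List ℕ) (fun _ => [])
    (fun x _ ih m => force (Nat.xor x m) fun s => s :: force (Nat.land x m) fun c => ih c) X

theorem addBit_cons (x : ℕ) (X : List ℕ) (m : ℕ) : addBit (x :: X) m = (x ^^^ m) :: addBit X (x &&& m) := by
  show force (Nat.xor x m) (fun s => s :: force (Nat.land x m) fun c => addBit X c) = _
  rw [force_eq, force_eq]; rfl

theorem length_addBit : ∀ (X : List ℕ) (m : ℕ), (addBit X m).length = X.length
  | [], _ => rfl
  | x :: X, m => by rw [addBit_cons, List.length_cons, length_addBit X, List.length_cons]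

theorem val_addBit : ∀ (X : List ℕ) (m i : ℕ), val X i + (m.testBit i).toNat < 2 ^ X.length →
    val (addBit X m) i = val X i + (m.testBit i).toNat
  | [], m, i, h => by simp [val] at h ⊢; simp [addBit, val, h]
  | x :: X, m, i, h => by
    rw [addBit_cons]
    simp only [val, List.length_cons, pow_succ] at h ⊢
    rw [val_addBit X _ i (by cases hx : x.testBit i <;> cases hm : m.testBit i <;> simp [hx, hm] at h ⊢ <;> omega)]
    cases hx : x.testBit i <;> cases hm : m.testBit i <;> simp [hx, hm] <;> omega

namespace Twist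

variable (T : Twist) (C : Cert)

/-- Counter of the positive steps, three planes. -/
noncomputable def sumP (v : List ℕ) : List ℕ :=
  List.rec (motive := fun _ => List ℕ) [0, 0, 0] (fun b v ih => addBit (mapNet (C.net b) ih) (T.plus v b)) v

/-- Counter of the negative steps, three planes. -/
noncomputable def sumM (v : List ℕ) : List ℕ :=
  List.rec (motive := fun _ => List ℕ) [0, 0, 0] (fun b v ih => addBit (mapNet (C.net b) ih) (T.minus v b)) v

variable {T C}

theorem sum_spec (hp : C.Perms) : ∀ (v : List ℕ), (∀ b ∈ v, b < C.k) → v.length < 8 →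
    (T.sumP C v).length = 3 ∧ (T.sumM C v).length = 3 ∧ ∀ i, val (T.sumP C v) i ≤ v.length ∧
      val (T.sumM C v) i ≤ v.length ∧ T.psum C v i = val (T.sumP C v) i - val (T.sumM C v) i
  | [], _, _ => ⟨rfl, rfl, fun i => by simp [sumP, sumM, psum, val]⟩
  | b :: v, hv, hl => by
    rw [List.length_cons] at hl
    obtain ⟨h1, h2, h3⟩ := sum_spec hp v (fun c hc => hv c (List.mem_cons_of_mem b hc)) (by omega)
    have hP : T.sumP C (b :: v) = addBit (mapNet (C.net b) (T.sumP C v)) (T.plus v b) := rfl
    have hM : T.sumM C (b :: v) = addBit (mapNet (C.net b) (T.sumM C v)) (T.minus v b) := rfl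
    rw [hP, hM, length_addBit, length_addBit, length_mapNet, length_mapNet]
    refine ⟨h1, h2, fun i => ?_⟩
    have hok := hp.ok b (hv b List.mem_cons_self)
    obtain ⟨a1, a2, a3⟩ := h3 (C.act b i)
    have hb : ∀ c : Bool, c.toNat ≤ 1 := fun c => by cases c <;> simp
    have b1 := hb ((T.plus v b).testBit i)
    have b2 := hb ((T.minus v b).testBit i)
    rw [val_addBit _ _ _ (by rw [length_mapNet, h1, val_mapNet hok]; show val _ (C.act b i) + _ < _; omega),
      val_addBit _ _ _ (by rw [length_mapNet, h2, val_mapNet hok]; show val _ (C.act b i) + _ < _; omega),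
      val_mapNet hok, val_mapNet hok, List.length_cons]
    refine ⟨by show val _ (C.act b i) + _ ≤ _; omega, by show val _ (C.act b i) + _ ≤ _; omega, ?_⟩
    show T.eps ^ v.length * T.kv b i + T.psum C v (C.act b i) = _
    rw [T.step_eq b v i, a3]
    push_cast
    show _ = ((val _ (C.act b i) : ℕ) : ℤ) + _ - (((val _ (C.act b i) : ℕ) : ℤ) + _)
    ring

variable (T C)

/-- Where a word has the largest rank at its head, its exponent is zero. -/
noncomputable def headZero (a : ℕ) (v : List ℕ) : Bool :=
  force (C.head a v) fun F => force (Nat.land F C.mask) fun F =>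
    force (Nat.lor (vgt (T.sumP C (a :: v)) (T.sumM C (a :: v))) (vgt (T.sumM C (a :: v)) (T.sumP C (a :: v))))
      fun D => Nat.beq (Nat.land F D) 0

variable {T C}

theorem headZero_spec (hp : C.Perms) {a : ℕ} {v : List ℕ} (hv : ∀ b ∈ a :: v, b < C.k) (hl : (a :: v).length < 8)
    (h : T.headZero C a v = true) {i : ℕ} (hi : i < C.n) (hb : (C.head a v).testBit i = true) :
    T.psum C (a :: v) i = 0 := by
  obtain ⟨h1, h2, h3⟩ := sum_spec (T := T) hp (a :: v) hv hl
  simp only [headZero, force_eq, nbeq_iff] at h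
  have e := congrArg (fun x => x.testBit i) h
  change ((C.head a v &&& C.mask) &&& (vgt (T.sumP C (a :: v)) (T.sumM C (a :: v)) |||
    vgt (T.sumM C (a :: v)) (T.sumP C (a :: v)))).testBit i = (0 : ℕ).testBit i at e
  simp only [Nat.testBit_and, Nat.testBit_or, hb, Cert.mask, testBit_mask, hi, decide_true, Bool.true_and,
    Nat.zero_testBit, Bool.or_eq_false_iff] at e
  have n1 : ¬ val (T.sumM C (a :: v)) i < val (T.sumP C (a :: v)) i := fun hlt => by
    rw [(vgt_spec _ _ _ (h1.trans h2.symm)).mpr hlt] at e; exact Bool.noConfusion e.1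
  have n2 : ¬ val (T.sumP C (a :: v)) i < val (T.sumM C (a :: v)) i := fun hlt => by
    rw [(vgt_spec _ _ _ (h2.trans h1.symm)).mpr hlt] at e; exact Bool.noConfusion e.2
  rw [(h3 i).2.2]
  omega

/-! ### Single points -/

variable (T C)

/-- Steps of one sign along a word from one point. -/
noncomputable def countAt (side : List ℕ → ℕ → ℕ) (v : List ℕ) : ℕ → ℕ :=
  List.rec (motive := fun _ => ℕ → ℕ) (fun _ => 0)
    (fun b v ih y => force (netAct (C.net b) y) fun z => force (ih z) fun s =>
      bif bit (side v b) y then Nat.succ s else s) v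

/-- The exponent of a word from one point is `p - q`. -/
noncomputable def sumIs (v : List ℕ) (i p q : ℕ) : Bool :=
  Nat.beq (Nat.add (countAt C T.plus v i) q) (Nat.add p (countAt C T.minus v i))

variable {T C}

theorem psum_eq_count : ∀ (v : List ℕ) (i : ℕ),
    T.psum C v i = (countAt C T.plus v i : ℤ) - (countAt C T.minus v i : ℤ)
  | [], _ => by simp [psum, countAt]
  | b :: v, i => by
    have e : ∀ side : List ℕ → ℕ → ℕ, countAt C side (b :: v) i =
        ((side v b).testBit i).toNat + countAt C side v (C.act b i) := by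
      intro side
      show force (netAct (C.net b) i) (fun z => force (countAt C side v z) fun s =>
        bif bit (side v b) i then Nat.succ s else s) = _
      rw [force_eq, force_eq, bit_eq]
      cases (side v b).testBit i <;> simp [Cert.act, Nat.add_comm]
    rw [e, e, psum, T.step_eq b v i, psum_eq_count v (C.act b i)]
    push_cast
    ring

theorem sumIs_spec {v : List ℕ} {i p q : ℕ} (h : T.sumIs C v i p q = true) : T.psum C v i = (p : ℤ) - q := by
  have e := nbeq_iff.mp h
  simp only [Nat.add_eq] at e
  rw [psum_eq_count]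
  omega

/-! ### Exponents modulo three -/

end Twist

/-- Add one to the counters modulo three at the positions of a mask. -/
noncomputable def add3 {α : Type} (R1 R2 p : ℕ) (K : ℕ → ℕ → α) : α :=
  force (Nat.land R1 p) fun w =>
    force (Nat.lor (Nat.xor R1 w) (Nat.xor p (Nat.land p (Nat.lor R1 R2)))) fun n1 =>
      force (Nat.lor (Nat.xor R2 (Nat.land R2 p)) w) fun n2 => K n1 n2

/-- The residue read from the counters. -/
def res3 (R1 R2 i : ℕ) : ZMod 3 := if R1.testBit i then 1 else if R2.testBit i then 2 else 0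

theorem add3_spec (R1 R2 p : ℕ) : ∃ n1 n2, (∀ {α : Type} (K : ℕ → ℕ → α), add3 R1 R2 p K = K n1 n2) ∧
    ∀ i, (R1.testBit i = false ∨ R2.testBit i = false) →
      (n1.testBit i = false ∨ n2.testBit i = false) ∧ res3 n1 n2 i = res3 R1 R2 i + ((p.testBit i).toNat : ℕ) := by
  refine ⟨(R1 ^^^ (R1 &&& p)) ||| (p ^^^ (p &&& (R1 ||| R2))), (R2 ^^^ (R2 &&& p)) ||| (R1 &&& p), fun K => ?_,
    fun i h => ?_⟩
  · rw [add3, force_eq, force_eq, force_eq]; rfl
  · simp only [res3, Nat.testBit_or, Nat.testBit_xor, Nat.testBit_and]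
    revert h
    cases R1.testBit i <;> cases R2.testBit i <;> cases p.testBit i <;> decide

namespace Twist

variable (T : Twist) (C : Cert)

/-- Counters of the exponent of a word modulo three. -/
noncomputable def mod3 {α : Type} (v : List ℕ) : (ℕ → ℕ → α) → α :=
  List.rec (motive := fun _ => (ℕ → ℕ → α) → α) (fun K => K 0 0)
    (fun b v ih K => ih fun R1 R2 => force (app (C.net b) R1) fun A => force (app (C.net b) R2) fun B =>
      add3 A B (T.plus v b) fun A B => add3 B A (T.minus v b) fun B A => K A B) v

/-- The exponent of a word is `r` modulo three at all points. -/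
noncomputable def mod3Is (v : List ℕ) (r : ℕ) : Bool :=
  T.mod3 C v fun R1 R2 => Nat.beq (Nat.land (bif Nat.beq r 0 then Nat.lor R1 R2 else Nat.xor C.mask R1) C.mask) 0

variable {T C}

theorem mod3_spec (hp : C.Perms) : ∀ (v : List ℕ), (∀ b ∈ v, b < C.k) → ∃ R1 R2,
    (∀ {α : Type} (K : ℕ → ℕ → α), T.mod3 C v K = K R1 R2) ∧
      ∀ i, (R1.testBit i = false ∨ R2.testBit i = false) ∧ res3 R1 R2 i = (T.psum C v i : ZMod 3)
  | [], _ => ⟨0, 0, fun K => rfl, fun i => by simp [res3, psum]⟩
  | b :: v, hv => by
    obtain ⟨R1, R2, hK, hR⟩ := mod3_spec hp v fun c hc => hv c (List.mem_cons_of_mem b hc)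
    obtain ⟨A, B, hA, hAB⟩ := add3_spec (app (C.net b) R1) (app (C.net b) R2) (T.plus v b)
    obtain ⟨B', A', hB, hBA⟩ := add3_spec B A (T.minus v b)
    refine ⟨A', B', fun K => ?_, fun i => ?_⟩
    · show T.mod3 C v (fun R1 R2 => force (app (C.net b) R1) fun A => force (app (C.net b) R2) fun B =>
        add3 A B (T.plus v b) fun A B => add3 B A (T.minus v b) fun B A => K A B) = _
      rw [hK, force_eq, force_eq, hA, hB]
    · have hok := hp.ok b (hv b List.mem_cons_self)
      obtain ⟨d1, e1⟩ := hR (C.act b i)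
      have hap : ∀ V, (app (C.net b) V).testBit i = V.testBit (C.act b i) := fun V => (testBit_app hok V i).1
      obtain ⟨d2, e2⟩ := hAB i (by rw [hap, hap]; exact d1)
      obtain ⟨d3, e3⟩ := hBA i d2.symm
      refine ⟨d3.symm, ?_⟩
      have hneg : ∀ P Q j, (P.testBit j = false ∨ Q.testBit j = false) → res3 Q P j = - res3 P Q j := by
        intro P Q j h
        simp only [res3]
        revert h
        cases P.testBit j <;> cases Q.testBit j <;> decide
      rw [hneg B' A' i d3, e3, hneg A B i d2, e2,
        show res3 (app (C.net b) R1) (app (C.net b) R2) i = res3 R1 R2 (C.act b i) by simp only [res3, hap], e1,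
        show T.psum C (b :: v) i = T.eps ^ v.length * T.kv b i + T.psum C v (C.act b i) from rfl, T.step_eq b v i]
      push_cast
      ring

theorem mod3Is_spec (hp : C.Perms) {v : List ℕ} (hv : ∀ b ∈ v, b < C.k) {r : ℕ} (hr : r ≤ 1)
    (h : T.mod3Is C v r = true) {i : ℕ} (hi : i < C.n) : (T.psum C v i : ZMod 3) = r := by
  obtain ⟨R1, R2, hK, hR⟩ := mod3_spec (T := T) hp v hv
  rw [mod3Is, hK, nbeq_iff] at h
  have e := congrArg (fun x => x.testBit i) h
  rw [← (hR i).2]
  interval_cases r
  · change ((R1 ||| R2) &&& C.mask).testBit i = (0 : ℕ).testBit i at e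
    simp only [Nat.testBit_and, Nat.testBit_or, Cert.mask, testBit_mask, hi, decide_true, Bool.and_true,
      Nat.zero_testBit, Bool.or_eq_false_iff] at e
    simp [res3, e.1, e.2]
  · change ((C.mask ^^^ R1) &&& C.mask).testBit i = (0 : ℕ).testBit i at e
    simp only [Nat.testBit_and, Nat.testBit_xor, Cert.mask, testBit_mask, hi, decide_true, Bool.and_true,
      Nat.zero_testBit] at e
    simp only [res3]
    cases hb : R1.testBit i
    · simp [hb] at e
    · simp

/-! ### Symmetry -/

variable (T C)

/-- The points moved by a letter, read off the first `c` index planes. -/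
noncomputable def movedAt (a c : ℕ) : ℕ :=
  Nat.rec (motive := fun _ => ℕ) 0 (fun p ih => force ih fun acc => force (iota C.N C.m p) fun P =>
    Nat.lor acc (Nat.xor (app (C.net a) P) P)) c

/-- The exponents of the two directions of a moved edge agree. -/
noncomputable def symOK (a : ℕ) : Bool :=
  force (Nat.land (movedAt C a C.m) C.mask) fun M =>
    Nat.beq (Nat.land (Nat.xor (app (C.net a) (T.pos a)) (bif T.inv then T.pos a else T.neg a)) M) 0 &&
      Nat.beq (Nat.land (Nat.xor (app (C.net a) (T.neg a)) (bif T.inv then T.neg a else T.pos a)) M) 0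

variable {T C}

theorem movedAt_false (hp : C.Perms) {a : ℕ} (ha : a < C.k) {i : ℕ} (hi : i < C.n) :
    ∀ c ≤ C.m, (movedAt C a c).testBit i = false → ∀ p < c, (C.act a i).testBit p = i.testBit p
  | 0, _, _, p, hp' => absurd hp' (Nat.not_lt_zero p)
  | c + 1, hc, h, p, hp' => by
    replace h : (force (movedAt C a c) fun acc => force (iota C.N C.m c) fun P =>
      Nat.lor acc (Nat.xor (app (C.net a) P) P)).testBit i = false := h
    rw [force_eq, force_eq] at h
    change (movedAt C a c ||| (app (C.net a) (iota C.N C.m c) ^^^ iota C.N C.m c)).testBit i = false at h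
    rw [Nat.testBit_or, Bool.or_eq_false_iff, Nat.testBit_xor, (testBit_app (hp.ok a ha) _ i).1,
      testBit_iota (by omega) hp.hN, testBit_iota (by omega) hp.hN] at h
    rcases Nat.lt_succ_iff_lt_or_eq.mp hp' with hp' | rfl
    · exact movedAt_false hp ha hi c (by omega) h.1 p hp'
    · have e := h.2
      rw [decide_eq_true (show netAct (C.net a) i < C.N from lt_of_lt_of_le (hp.lt a ha i hi) hp.hnN),
        decide_eq_true (lt_of_lt_of_le hi hp.hnN)] at e
      simpa [Cert.act] using e

theorem symOK_spec (hp : C.Perms) {a : ℕ} (ha : a < C.k) (h : T.symOK C a = true) {i : ℕ} (hi : i < C.n)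
    (hne : C.act a i ≠ i) : T.kv a (C.act a i) = -T.eps * T.kv a i := by
  simp only [symOK, force_eq, Bool.and_eq_true, nbeq_iff] at h
  have hm : (movedAt C a C.m).testBit i = true := by
    by_contra hf
    refine hne (Nat.eq_of_testBit_eq fun p => ?_)
    by_cases hpm : p < C.m
    · exact movedAt_false hp ha hi _ le_rfl (by simpa using hf) p hpm
    · have hle : C.n ≤ 2 ^ p := (hp.hnN.trans hp.hN).trans (Nat.pow_le_pow_right two_pos (not_lt.1 hpm))
      rw [Nat.testBit_lt_two_pow (lt_of_lt_of_le (hp.lt a ha i hi) hle),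
        Nat.testBit_lt_two_pow (lt_of_lt_of_le hi hle)]
  have key : ∀ V W, Nat.land (Nat.xor (app (C.net a) V) W) (Nat.land (movedAt C a C.m) C.mask) = 0 →
      V.testBit (C.act a i) = W.testBit i := by
    intro V W h
    have e := congrArg (fun x => x.testBit i) h
    change ((app (C.net a) V ^^^ W) &&& (movedAt C a C.m &&& C.mask)).testBit i = (0 : ℕ).testBit i at e
    rw [Nat.testBit_and, Nat.testBit_and, Nat.testBit_xor, (testBit_app (hp.ok a ha) V i).1, hm, Cert.mask,
      testBit_mask, Nat.zero_testBit] at e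
    revert e
    show (xor (V.testBit (C.act a i)) (W.testBit i) && (true && decide (i < C.n))) = false → _
    cases V.testBit (C.act a i) <;> cases W.testBit i <;> simp [hi]
  have e1 := key _ _ h.1
  have e2 := key _ _ h.2
  simp only [kv, eps]
  cases hinv : T.inv <;> simp [hinv] at e1 e2 <;> rw [e1, e2] <;> simp

end Twist

end Cfsg.Agent.FiTwentyFourCover
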