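/-
The edges of the table of Fi24 with exponents, in any group with the relations of Fi24 up to a normal element.
Main results: `Checks`, `Deduction`, `Deduction.loop`.
-/
import Cfsg.Agent.Lib.FiTwentyFour.Index
import Cfsg.Agent.Lib.FiTwentyFourCover.Exponents

set_option autoImplicit false
set_option maxRecDepth 10000

namespace Cfsg.Agent.FiTwentyFourCover

open Cfsg.Agent.FiTwentyFour

/-- The long relator. -/
def prodWord : List ℕ := (List.replicate 17 relProd).flatten

/-- The checks on a system of exponents. -/
structure Checks (T : Twist) : Prop where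
  sym : ∀ a < 12, T.symOK fi24c a = true
  sel : ∀ a < 12, ∀ i, (fi24c.sel a).testBit i = true → T.kv a i = 0
  base : ∀ a < 12, a ≠ 1 → T.kv a 0 = 0
  heads : ∀ a < 12, ∀ b < 12, b ≠ a → T.headZero fi24c a (rest a b) = true
  point0 : T.sumIs fi24c (2 :: (relE7.rotate 42).tail) 347 0 0 = true
  point1 : T.sumIs fi24c (3 :: (relSpider.rotate 42).tail) 3341 0 0 = true
  point2 : T.sumIs fi24c (10 :: (relE7.rotate 27).tail) 6437 0 0 = true
  point3 : T.sumIs fi24c (7 :: (relE7.rotate 33).tail) 136210 0 0 = true
  point4 : T.sumIs fi24c (7 :: (relSpider.rotate 39).tail) 45179 0 0 = true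
  point5 : T.sumIs fi24c (3 :: (relE7.rotate 29).tail) 195541 0 0 = true
  point6 : T.sumIs fi24c (6 :: (prodWord.rotate 76).tail) 255099 1 0 = true

theorem rest_length {a b : ℕ} (ha : a < 12) (hb : b < 12) : (a :: rest a b).length < 8 := by
  have h : ((List.range 12).all fun a => (List.range 12).all fun b => Nat.blt (a :: rest a b).length 8) = true := by
    decide +kernel
  simp only [List.all_eq_true, List.mem_range, Nat.blt_eq] at h
  exact h a ha b hb

theorem heads_mem : ∀ {C : Cert} {a : ℕ} {vs : List (List ℕ)} {i : ℕ}, (C.heads a vs).testBit i = true →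
    ∃ v ∈ vs, (C.head a v).testBit i = true
  | C, a, [], i, h => by simp [Cert.heads] at h
  | C, a, v :: vs, i, h => by
    rw [show C.heads a (v :: vs) = force (C.heads a vs) (fun acc => Nat.lor acc (C.head a v)) from rfl, force_eq] at h
    rcases split_or (x := C.heads a vs) (y := C.head a v) h with h | h
    · obtain ⟨u, hu, h'⟩ := heads_mem h
      exact ⟨u, List.mem_cons_of_mem v hu, h'⟩
    · exact ⟨v, List.mem_cons_self, h⟩

theorem head_lt {C : Cert} (hp : C.Perms) (hR : ∀ b < C.k, (C.rank b).length = C.R) {a : ℕ} (ha : a < C.k)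
    {v : List ℕ} (hv : ∀ b ∈ v, b < C.k) {i : ℕ} (h : (C.head a v).testBit i = true) :
    Cert.pathMax C v (C.act a i) < C.rk a i := by
  obtain ⟨h1, h2⟩ := Cert.sfx_spec hp hR v hv
  rw [Cert.head, vgt_spec _ _ _ (by rw [length_mapNet, h1, hR a ha]), val_mapNet (hp.ok a ha), h2] at h
  exact h

theorem point_spec {C : Cert} {a i : ℕ} {v : List ℕ} (h : C.pointOK a i v = true) :
    a < C.k ∧ (∀ b ∈ v, b < C.k) ∧ i < C.n ∧ tw C.net (a :: v) i = i ∧
      Cert.pathMax C v (C.act a i) < C.rk a i := by
  simp only [Cert.pointOK, Bool.and_eq_true, Nat.blt_eq, List.all_eq_true, nbeq_iff] at h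
  obtain ⟨ha, hv, hi, hc, hlt⟩ := h
  refine ⟨ha, hv, hi, hc, ?_⟩
  have key : ∀ (u : List ℕ) (y : ℕ), List.rec (motive := fun _ => ℕ → ℕ) (fun _ => 0)
      (fun b _ ih y => force (netAct (C.net b) y) fun z =>
        force (kval (C.rank b) y) fun r => force (ih z) fun s => bif Nat.ble r s then s else r) u y
      = Cert.pathMax C u y := by
    intro u
    induction u with
    | nil => intro y; rfl
    | cons b u ih =>
      intro y
      show force (netAct (C.net b) y) (fun z => force (kval (C.rank b) y) fun r =>
        force (_ : ℕ) fun s => bif Nat.ble r s then s else r) = _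
      rw [force_eq, force_eq, force_eq, ih, kval_eq]
      show (bif Nat.ble (C.rk b y) (Cert.pathMax C u (C.act b y)) then Cert.pathMax C u (C.act b y)
        else C.rk b y) = _
      cases hb : Nat.ble (C.rk b y) (Cert.pathMax C u (C.act b y))
      · have : ¬ C.rk b y ≤ Cert.pathMax C u (C.act b y) := fun h => by simp [Nat.ble_eq.mpr h] at hb
        simp only [cond_false, Cert.pathMax]; omega
      · have := Nat.ble_eq.mp hb
        simp only [cond_true, Cert.pathMax]; omega
  rw [key, kval_eq] at hlt
  exact hlt

/-- Twelve elements with the relations of Fi24 up to the value of the long relator, and a subgroup with the letters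
of the point stabiliser. -/
structure Deduction (T : Twist) {E : Type*} [Group E] (el : ℕ → E) (u : E) (S : Subgroup E) : Prop where
  ck : Checks T
  pair : ∀ a < 12, ∀ b < 12, ev el (word24 a b) = 1
  sq : ∀ a < 12, el a * el a = 1
  seven : ev el relE7 = 1
  spider : ev el relSpider = 1
  prod : ev el prodWord = u
  twist : ∀ a < 12, el a * u = u ^ T.eps * el a
  mem : ∀ a < 12, a ≠ 1 → el a ∈ S

variable {T : Twist} {E : Type*} [Group E] {el : ℕ → E} {u : E} {S : Subgroup E} (D : Deduction T el u S)
include D

theorem Deduction.twistC : ∀ b < fi24c.k, el b * u = u ^ T.eps * el b := fun b hb => D.twist b hb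

theorem Deduction.exists_phi : ∃ φ : ℕ → E ⧸ S, φ 0 = ((1 : E) : E ⧸ S) ∧
    ∀ a < fi24c.k, ∀ i < fi24c.n, (fi24c.sel a).testBit i = true → Cert.Edge fi24c el φ a i :=
  Cert.exists_phi perms24 (Cert.tree_spec perms24 tree24) el _ fun a ha => D.sq a ha

/-- The map onto the cosets grown along the tree. -/
noncomputable def Deduction.φ : ℕ → E ⧸ S := D.exists_phi.choose

theorem Deduction.just_sel {a : ℕ} (ha : a < 12) {i : ℕ} (hi : i < fi24c.n)
    (h : (fi24c.sel a).testBit i = true) : Twist.Just T fi24c el u D.φ a i := by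
  intro _
  show el a • D.φ i = u ^ T.kv a i • D.φ (fi24c.act a i)
  rw [D.ck.sel a ha i h, zpow_zero, one_smul]
  exact D.exists_phi.choose_spec.2 a ha i hi h

theorem Deduction.just_base {a : ℕ} (ha : a < 12) (h1 : a ≠ 1) : Twist.Just T fi24c el u D.φ a 0 := by
  intro _
  have e : fi24c.act a 0 = 0 := by
    have := congrArg Fin.val (rho24_H24 _ (x24_mem ha h1))
    rwa [rho24_x24 ha, Cert.sigma_apply perms24 ha] at this
  show el a • D.φ 0 = u ^ T.kv a 0 • D.φ (fi24c.act a 0)
  rw [D.ck.base a ha h1, zpow_zero, one_smul, e, show D.φ 0 = _ from D.exists_phi.choose_spec.1]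
  exact QuotientGroup.eq.mpr (by simpa using D.mem a ha h1)

theorem Deduction.just_rests {a : ℕ} (ha : a < 12) {l : List ℕ} (hl : ∀ b ∈ l, b < 12 ∧ b ≠ a)
    {F : ℕ} (hF : Nat.beq (fi24c.heads a (l.map (rest a))) F = true) :
    ∀ i < fi24c.n, F.testBit i = true → Twist.Just T fi24c el u D.φ a i := by
  intro i hi hbit
  rw [← nbeq_iff.mp hF] at hbit
  obtain ⟨v, hv, hh⟩ := heads_mem hbit
  obtain ⟨b, hb, rfl⟩ := List.mem_map.mp hv
  obtain ⟨hb12, hne⟩ := hl b hb
  obtain ⟨e, hlt⟩ := rest_spec ha hb12 hne.symm
  refine Twist.just_of_loop perms24 D.twistC (r := 0) ha hi hlt ?_ ?_ ?_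
    (head_lt perms24 (fun c hc => rank_len hc) ha hlt hh)
  · have hcl : ∀ c ∈ a :: rest a b, c < 12 := fun c hc => by
      rcases List.mem_cons.mp hc with rfl | hc
      exacts [ha, hlt c hc]
    have hw : ev sig24 (a :: rest a b) = 1 := by
      rw [e, word24, ev_pair, ← lab24_symm ha hb12]; exact sig_pow hb12 ha
    have := congrArg (fun σ : Equiv.Perm (Fin fi24c.n) => (σ ⟨i, hi⟩ : ℕ)) hw
    rw [show sig24 = Cert.sigma perms24 from rfl] at this
    rwa [Cert.ev_sigma perms24 _ hcl] at this
  · rw [e, D.pair a ha b hb12, zpow_zero]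
  · refine Twist.headZero_spec perms24 ?_ (rest_length ha hb12) (D.ck.heads a ha b hb12 hne) hi hh
    intro c hc
    rcases List.mem_cons.mp hc with rfl | hc
    exacts [ha, hlt c hc]

theorem Deduction.just_point {a i : ℕ} {v : List ℕ} {p : ℕ} (h : fi24c.pointOK a i v = true)
    (hev : ev el (a :: v) = u ^ (p : ℤ)) (hsum : T.sumIs fi24c (a :: v) i p 0 = true) :
    Twist.Just T fi24c el u D.φ a i := by
  obtain ⟨ha, hv, hi, hc, hlt⟩ := point_spec h
  exact Twist.just_of_loop perms24 D.twistC ha hi hv hc (by rw [hev])
    (by rw [Twist.sumIs_spec hsum]; simp) hlt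

omit D in
theorem ev_rotate_one {w : List ℕ} (h : ev el w = 1) (t : ℕ) (ht : t ≤ w.length) : ev el (w.rotate t) = 1 := by
  rw [List.rotate_eq_drop_append_take ht, ev_append]
  rw [← List.take_append_drop t w, ev_append] at h
  rw [eq_inv_of_mul_eq_one_left h, mul_inv_cancel]

theorem Deduction.ev_prod_rotate : ev el (prodWord.rotate 76) = u := by
  have hlen : prodWord.length = 238 := by decide +kernel
  rw [List.rotate_eq_drop_append_take (by omega), ev_append]
  have h := D.prod
  rw [← List.take_append_drop 76 prodWord, ev_append] at h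
  have hlt : ∀ b ∈ prodWord.take 76, b < fi24c.k := fun b hb =>
    Nat.le_of_ble_eq_true (List.all_eq_true.mp (show prodWord.all (fun b => Nat.blt b 12) = true by decide +kernel) b
      (List.mem_of_mem_take hb))
  have hc := Twist.ev_zpow (T := T) (C := fi24c) D.twistC 1 (prodWord.take 76) hlt
  rw [zpow_one, mul_one, List.length_take, hlen, show min 76 238 = 2 * 38 from rfl, pow_mul, pow_two,
    T.eps_mul_self, one_pow, zpow_one] at hc
  rw [show ev el (prodWord.drop 76) = u * (ev el (prodWord.take 76))⁻¹ from eq_mul_inv_of_mul_eq h, ← mul_assoc,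
    hc, mul_inv_cancel_right]

theorem Deduction.just0 : Twist.Just T fi24c el u D.φ 2 347 :=
  D.just_point (p := 0) point24_0 (by
    rw [show 2 :: (relE7.rotate 42).tail = relE7.rotate 42 by decide +kernel,
      ev_rotate_one D.seven 42 (by decide +kernel)]; simp) D.ck.point0

theorem Deduction.just1 : Twist.Just T fi24c el u D.φ 3 3341 :=
  D.just_point (p := 0) point24_1 (by
    rw [show 3 :: (relSpider.rotate 42).tail = relSpider.rotate 42 by decide +kernel,
      ev_rotate_one D.spider 42 (by decide +kernel)]; simp) D.ck.point1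

theorem Deduction.just2 : Twist.Just T fi24c el u D.φ 10 6437 :=
  D.just_point (p := 0) point24_2 (by
    rw [show 10 :: (relE7.rotate 27).tail = relE7.rotate 27 by decide +kernel,
      ev_rotate_one D.seven 27 (by decide +kernel)]; simp) D.ck.point2

theorem Deduction.just3 : Twist.Just T fi24c el u D.φ 7 136210 :=
  D.just_point (p := 0) point24_3 (by
    rw [show 7 :: (relE7.rotate 33).tail = relE7.rotate 33 by decide +kernel,
      ev_rotate_one D.seven 33 (by decide +kernel)]; simp) D.ck.point3

theorem Deduction.just4 : Twist.Just T fi24c el u D.φ 7 45179 :=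
  D.just_point (p := 0) point24_4 (by
    rw [show 7 :: (relSpider.rotate 39).tail = relSpider.rotate 39 by decide +kernel,
      ev_rotate_one D.spider 39 (by decide +kernel)]; simp) D.ck.point4

theorem Deduction.just5 : Twist.Just T fi24c el u D.φ 3 195541 :=
  D.just_point (p := 0) point24_5 (by
    rw [show 3 :: (relE7.rotate 29).tail = relE7.rotate 29 by decide +kernel,
      ev_rotate_one D.seven 29 (by decide +kernel)]; simp) D.ck.point5

theorem Deduction.just6 : Twist.Just T fi24c el u D.φ 6 255099 :=
  D.just_point (p := 1) point24_6 (by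
    rw [show 6 :: (((List.replicate 17 relProd).flatten).rotate 76).tail = prodWord.rotate 76 by decide +kernel,
      D.ev_prod_rotate]; simp) D.ck.point6

theorem Deduction.just_0 : ∀ i < fi24c.n, Twist.Just T fi24c el u D.φ 0 i ∨ Twist.Just T fi24c el u D.φ 0 (fi24c.act 0 i) := by
  have hF : ∀ i < fi24c.n, ((flag0_0 ||| flag0_1 ||| flag0_2 ||| sel0) ||| Nat.shiftLeft 1 0).testBit i = true → Twist.Just T fi24c el u D.φ 0 i := by
    intro i hi h
    rcases split_or h with h | hp
    swap
    · rw [eq_of_shift hp]; exact D.just_base (by norm_num) (by norm_num)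
    rcases split_or h with h | hp
    swap
    · exact D.just_sel (by norm_num) hi hp
    rcases split_or h with h | hp
    swap
    · exact D.just_rests (by norm_num) (by decide) heads24_0_2 i hi hp
    rcases split_or h with h | hp
    · exact D.just_rests (by norm_num) (by decide) heads24_0_0 i hi h
    · exact D.just_rests (by norm_num) (by decide) heads24_0_1 i hi hp
  intro i hi
  rcases Cert.cover_spec perms24 (by decide : 0 < fi24c.k) cover24_0 hi with h | h
  · exact Or.inl (hF i hi h)
  · exact Or.inr (hF _ (perms24.lt 0 (by decide) i hi) h)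

theorem Deduction.just_1 : ∀ i < fi24c.n, Twist.Just T fi24c el u D.φ 1 i ∨ Twist.Just T fi24c el u D.φ 1 (fi24c.act 1 i) := by
  have hF : ∀ i < fi24c.n, ((flag1_0 ||| flag1_1 ||| flag1_2 ||| sel1)).testBit i = true → Twist.Just T fi24c el u D.φ 1 i := by
    intro i hi h
    rcases split_or h with h | hp
    swap
    · exact D.just_sel (by norm_num) hi hp
    rcases split_or h with h | hp
    swap
    · exact D.just_rests (by norm_num) (by decide) heads24_1_2 i hi hp
    rcases split_or h with h | hp
    · exact D.just_rests (by norm_num) (by decide) heads24_1_0 i hi h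
    · exact D.just_rests (by norm_num) (by decide) heads24_1_1 i hi hp
  intro i hi
  rcases Cert.cover_spec perms24 (by decide : 1 < fi24c.k) cover24_1 hi with h | h
  · exact Or.inl (hF i hi h)
  · exact Or.inr (hF _ (perms24.lt 1 (by decide) i hi) h)

theorem Deduction.just_2 : ∀ i < fi24c.n, Twist.Just T fi24c el u D.φ 2 i ∨ Twist.Just T fi24c el u D.φ 2 (fi24c.act 2 i) := by
  have hF : ∀ i < fi24c.n, ((flag2_0 ||| flag2_1 ||| flag2_2 ||| sel2) ||| Nat.shiftLeft 1 0 ||| Nat.shiftLeft 1 347).testBit i = true → Twist.Just T fi24c el u D.φ 2 i := by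
    intro i hi h
    rcases split_or h with h | hp
    swap
    · rw [eq_of_shift hp]; exact D.just0
    rcases split_or h with h | hp
    swap
    · rw [eq_of_shift hp]; exact D.just_base (by norm_num) (by norm_num)
    rcases split_or h with h | hp
    swap
    · exact D.just_sel (by norm_num) hi hp
    rcases split_or h with h | hp
    swap
    · exact D.just_rests (by norm_num) (by decide) heads24_2_2 i hi hp
    rcases split_or h with h | hp
    · exact D.just_rests (by norm_num) (by decide) heads24_2_0 i hi h
    · exact D.just_rests (by norm_num) (by decide) heads24_2_1 i hi hp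
  intro i hi
  rcases Cert.cover_spec perms24 (by decide : 2 < fi24c.k) cover24_2 hi with h | h
  · exact Or.inl (hF i hi h)
  · exact Or.inr (hF _ (perms24.lt 2 (by decide) i hi) h)

theorem Deduction.just_3 : ∀ i < fi24c.n, Twist.Just T fi24c el u D.φ 3 i ∨ Twist.Just T fi24c el u D.φ 3 (fi24c.act 3 i) := by
  have hF : ∀ i < fi24c.n, ((flag3_0 ||| flag3_1 ||| flag3_2 ||| sel3) ||| Nat.shiftLeft 1 0 ||| Nat.shiftLeft 1 3341 ||| Nat.shiftLeft 1 195541).testBit i = true → Twist.Just T fi24c el u D.φ 3 i := by
    intro i hi h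
    rcases split_or h with h | hp
    swap
    · rw [eq_of_shift hp]; exact D.just5
    rcases split_or h with h | hp
    swap
    · rw [eq_of_shift hp]; exact D.just1
    rcases split_or h with h | hp
    swap
    · rw [eq_of_shift hp]; exact D.just_base (by norm_num) (by norm_num)
    rcases split_or h with h | hp
    swap
    · exact D.just_sel (by norm_num) hi hp
    rcases split_or h with h | hp
    swap
    · exact D.just_rests (by norm_num) (by decide) heads24_3_2 i hi hp
    rcases split_or h with h | hp
    · exact D.just_rests (by norm_num) (by decide) heads24_3_0 i hi h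
    · exact D.just_rests (by norm_num) (by decide) heads24_3_1 i hi hp
  intro i hi
  rcases Cert.cover_spec perms24 (by decide : 3 < fi24c.k) cover24_3 hi with h | h
  · exact Or.inl (hF i hi h)
  · exact Or.inr (hF _ (perms24.lt 3 (by decide) i hi) h)

theorem Deduction.just_4 : ∀ i < fi24c.n, Twist.Just T fi24c el u D.φ 4 i ∨ Twist.Just T fi24c el u D.φ 4 (fi24c.act 4 i) := by
  have hF : ∀ i < fi24c.n, ((flag4_0 ||| flag4_1 ||| flag4_2 ||| sel4) ||| Nat.shiftLeft 1 0).testBit i = true → Twist.Just T fi24c el u D.φ 4 i := by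
    intro i hi h
    rcases split_or h with h | hp
    swap
    · rw [eq_of_shift hp]; exact D.just_base (by norm_num) (by norm_num)
    rcases split_or h with h | hp
    swap
    · exact D.just_sel (by norm_num) hi hp
    rcases split_or h with h | hp
    swap
    · exact D.just_rests (by norm_num) (by decide) heads24_4_2 i hi hp
    rcases split_or h with h | hp
    · exact D.just_rests (by norm_num) (by decide) heads24_4_0 i hi h
    · exact D.just_rests (by norm_num) (by decide) heads24_4_1 i hi hp
  intro i hi
  rcases Cert.cover_spec perms24 (by decide : 4 < fi24c.k) cover24_4 hi with h | h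
  · exact Or.inl (hF i hi h)
  · exact Or.inr (hF _ (perms24.lt 4 (by decide) i hi) h)

theorem Deduction.just_5 : ∀ i < fi24c.n, Twist.Just T fi24c el u D.φ 5 i ∨ Twist.Just T fi24c el u D.φ 5 (fi24c.act 5 i) := by
  have hF : ∀ i < fi24c.n, ((flag5_0 ||| flag5_1 ||| flag5_2 ||| sel5) ||| Nat.shiftLeft 1 0).testBit i = true → Twist.Just T fi24c el u D.φ 5 i := by
    intro i hi h
    rcases split_or h with h | hp
    swap
    · rw [eq_of_shift hp]; exact D.just_base (by norm_num) (by norm_num)
    rcases split_or h with h | hp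
    swap
    · exact D.just_sel (by norm_num) hi hp
    rcases split_or h with h | hp
    swap
    · exact D.just_rests (by norm_num) (by decide) heads24_5_2 i hi hp
    rcases split_or h with h | hp
    · exact D.just_rests (by norm_num) (by decide) heads24_5_0 i hi h
    · exact D.just_rests (by norm_num) (by decide) heads24_5_1 i hi hp
  intro i hi
  rcases Cert.cover_spec perms24 (by decide : 5 < fi24c.k) cover24_5 hi with h | h
  · exact Or.inl (hF i hi h)
  · exact Or.inr (hF _ (perms24.lt 5 (by decide) i hi) h)

theorem Deduction.just_6 : ∀ i < fi24c.n, Twist.Just T fi24c el u D.φ 6 i ∨ Twist.Just T fi24c el u D.φ 6 (fi24c.act 6 i) := by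
  have hF : ∀ i < fi24c.n, ((flag6_0 ||| flag6_1 ||| flag6_2 ||| sel6) ||| Nat.shiftLeft 1 0 ||| Nat.shiftLeft 1 255099).testBit i = true → Twist.Just T fi24c el u D.φ 6 i := by
    intro i hi h
    rcases split_or h with h | hp
    swap
    · rw [eq_of_shift hp]; exact D.just6
    rcases split_or h with h | hp
    swap
    · rw [eq_of_shift hp]; exact D.just_base (by norm_num) (by norm_num)
    rcases split_or h with h | hp
    swap
    · exact D.just_sel (by norm_num) hi hp
    rcases split_or h with h | hp
    swap
    · exact D.just_rests (by norm_num) (by decide) heads24_6_2 i hi hp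
    rcases split_or h with h | hp
    · exact D.just_rests (by norm_num) (by decide) heads24_6_0 i hi h
    · exact D.just_rests (by norm_num) (by decide) heads24_6_1 i hi hp
  intro i hi
  rcases Cert.cover_spec perms24 (by decide : 6 < fi24c.k) cover24_6 hi with h | h
  · exact Or.inl (hF i hi h)
  · exact Or.inr (hF _ (perms24.lt 6 (by decide) i hi) h)

theorem Deduction.just_7 : ∀ i < fi24c.n, Twist.Just T fi24c el u D.φ 7 i ∨ Twist.Just T fi24c el u D.φ 7 (fi24c.act 7 i) := by
  have hF : ∀ i < fi24c.n, ((flag7_0 ||| flag7_1 ||| flag7_2 ||| sel7) ||| Nat.shiftLeft 1 0 ||| Nat.shiftLeft 1 136210 ||| Nat.shiftLeft 1 45179).testBit i = true → Twist.Just T fi24c el u D.φ 7 i := by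
    intro i hi h
    rcases split_or h with h | hp
    swap
    · rw [eq_of_shift hp]; exact D.just4
    rcases split_or h with h | hp
    swap
    · rw [eq_of_shift hp]; exact D.just3
    rcases split_or h with h | hp
    swap
    · rw [eq_of_shift hp]; exact D.just_base (by norm_num) (by norm_num)
    rcases split_or h with h | hp
    swap
    · exact D.just_sel (by norm_num) hi hp
    rcases split_or h with h | hp
    swap
    · exact D.just_rests (by norm_num) (by decide) heads24_7_2 i hi hp
    rcases split_or h with h | hp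
    · exact D.just_rests (by norm_num) (by decide) heads24_7_0 i hi h
    · exact D.just_rests (by norm_num) (by decide) heads24_7_1 i hi hp
  intro i hi
  rcases Cert.cover_spec perms24 (by decide : 7 < fi24c.k) cover24_7 hi with h | h
  · exact Or.inl (hF i hi h)
  · exact Or.inr (hF _ (perms24.lt 7 (by decide) i hi) h)

theorem Deduction.just_8 : ∀ i < fi24c.n, Twist.Just T fi24c el u D.φ 8 i ∨ Twist.Just T fi24c el u D.φ 8 (fi24c.act 8 i) := by
  have hF : ∀ i < fi24c.n, ((flag8_0 ||| flag8_1 ||| flag8_2 ||| sel8) ||| Nat.shiftLeft 1 0).testBit i = true → Twist.Just T fi24c el u D.φ 8 i := by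
    intro i hi h
    rcases split_or h with h | hp
    swap
    · rw [eq_of_shift hp]; exact D.just_base (by norm_num) (by norm_num)
    rcases split_or h with h | hp
    swap
    · exact D.just_sel (by norm_num) hi hp
    rcases split_or h with h | hp
    swap
    · exact D.just_rests (by norm_num) (by decide) heads24_8_2 i hi hp
    rcases split_or h with h | hp
    · exact D.just_rests (by norm_num) (by decide) heads24_8_0 i hi h
    · exact D.just_rests (by norm_num) (by decide) heads24_8_1 i hi hp
  intro i hi
  rcases Cert.cover_spec perms24 (by decide : 8 < fi24c.k) cover24_8 hi with h | h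
  · exact Or.inl (hF i hi h)
  · exact Or.inr (hF _ (perms24.lt 8 (by decide) i hi) h)

theorem Deduction.just_9 : ∀ i < fi24c.n, Twist.Just T fi24c el u D.φ 9 i ∨ Twist.Just T fi24c el u D.φ 9 (fi24c.act 9 i) := by
  have hF : ∀ i < fi24c.n, ((flag9_0 ||| flag9_1 ||| flag9_2 ||| sel9) ||| Nat.shiftLeft 1 0).testBit i = true → Twist.Just T fi24c el u D.φ 9 i := by
    intro i hi h
    rcases split_or h with h | hp
    swap
    · rw [eq_of_shift hp]; exact D.just_base (by norm_num) (by norm_num)
    rcases split_or h with h | hp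
    swap
    · exact D.just_sel (by norm_num) hi hp
    rcases split_or h with h | hp
    swap
    · exact D.just_rests (by norm_num) (by decide) heads24_9_2 i hi hp
    rcases split_or h with h | hp
    · exact D.just_rests (by norm_num) (by decide) heads24_9_0 i hi h
    · exact D.just_rests (by norm_num) (by decide) heads24_9_1 i hi hp
  intro i hi
  rcases Cert.cover_spec perms24 (by decide : 9 < fi24c.k) cover24_9 hi with h | h
  · exact Or.inl (hF i hi h)
  · exact Or.inr (hF _ (perms24.lt 9 (by decide) i hi) h)

theorem Deduction.just_10 : ∀ i < fi24c.n, Twist.Just T fi24c el u D.φ 10 i ∨ Twist.Just T fi24c el u D.φ 10 (fi24c.act 10 i) := by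
  have hF : ∀ i < fi24c.n, ((flag10_0 ||| flag10_1 ||| flag10_2 ||| sel10) ||| Nat.shiftLeft 1 0 ||| Nat.shiftLeft 1 6437).testBit i = true → Twist.Just T fi24c el u D.φ 10 i := by
    intro i hi h
    rcases split_or h with h | hp
    swap
    · rw [eq_of_shift hp]; exact D.just2
    rcases split_or h with h | hp
    swap
    · rw [eq_of_shift hp]; exact D.just_base (by norm_num) (by norm_num)
    rcases split_or h with h | hp
    swap
    · exact D.just_sel (by norm_num) hi hp
    rcases split_or h with h | hp
    swap
    · exact D.just_rests (by norm_num) (by decide) heads24_10_2 i hi hp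
    rcases split_or h with h | hp
    · exact D.just_rests (by norm_num) (by decide) heads24_10_0 i hi h
    · exact D.just_rests (by norm_num) (by decide) heads24_10_1 i hi hp
  intro i hi
  rcases Cert.cover_spec perms24 (by decide : 10 < fi24c.k) cover24_10 hi with h | h
  · exact Or.inl (hF i hi h)
  · exact Or.inr (hF _ (perms24.lt 10 (by decide) i hi) h)

theorem Deduction.just_11 : ∀ i < fi24c.n, Twist.Just T fi24c el u D.φ 11 i ∨ Twist.Just T fi24c el u D.φ 11 (fi24c.act 11 i) := by
  have hF : ∀ i < fi24c.n, ((flag11_0 ||| flag11_1 ||| flag11_2 ||| sel11) ||| Nat.shiftLeft 1 0).testBit i = true → Twist.Just T fi24c el u D.φ 11 i := by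
    intro i hi h
    rcases split_or h with h | hp
    swap
    · rw [eq_of_shift hp]; exact D.just_base (by norm_num) (by norm_num)
    rcases split_or h with h | hp
    swap
    · exact D.just_sel (by norm_num) hi hp
    rcases split_or h with h | hp
    swap
    · exact D.just_rests (by norm_num) (by decide) heads24_11_2 i hi hp
    rcases split_or h with h | hp
    · exact D.just_rests (by norm_num) (by decide) heads24_11_0 i hi h
    · exact D.just_rests (by norm_num) (by decide) heads24_11_1 i hi hp
  intro i hi
  rcases Cert.cover_spec perms24 (by decide : 11 < fi24c.k) cover24_11 hi with h | h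
  · exact Or.inl (hF i hi h)
  · exact Or.inr (hF _ (perms24.lt 11 (by decide) i hi) h)

theorem Deduction.edges : ∀ a < fi24c.k, ∀ i < fi24c.n, Twist.Edge T fi24c el u D.φ a i := by
  refine Twist.all_edges perms24 D.twistC (fun a ha => D.sq a ha)
    (fun a ha => (Cert.rank_spec perms24 ha (rank_ok ha)).2)
    (fun a ha i hi => Twist.symOK_spec perms24 ha (D.ck.sym a ha) hi) ?_
  intro a ha
  have ha' : a < 12 := ha
  interval_cases a
  exacts [D.just_0, D.just_1, D.just_2, D.just_3, D.just_4, D.just_5, D.just_6, D.just_7, D.just_8, D.just_9,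
    D.just_10, D.just_11]

/-- A closed relator with exponent `d` gives a conjugate of `u ^ d` in the subgroup. -/
theorem Deduction.loop {w : List ℕ} (hw : ∀ b ∈ w, b < 12) {i : ℕ} (hi : i < fi24c.n)
    (hclosed : tw fi24c.net w i = i) (hev : ev el w = 1) {d : ℤ} (hd : T.psum fi24c w i = d) :
    ∃ g : E, g⁻¹ * u ^ d * g ∈ S := by
  have h := Twist.ev_path (T := T) perms24 D.twistC (φ := D.φ) (r := Cert.pathMax fi24c w i + 1)
    (fun j hj b hb _ => D.edges b hb j hj) w hw i hi (Nat.lt_succ_self _)
  rw [hev, one_smul, hclosed, hd] at h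
  obtain ⟨g, hg⟩ := QuotientGroup.mk_surjective (D.φ i)
  refine ⟨g, ?_⟩
  rw [← hg] at h
  have h2 : ((g : E) : E ⧸ S) = ((u ^ d * g : E) : E ⧸ S) := h
  have := QuotientGroup.eq.mp h2
  rwa [← mul_assoc] at this

end Cfsg.Agent.FiTwentyFourCover
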