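/-
The two systems of exponents pass their checks.
Main results: `checks_fix`, `checks_inv`, `fix_loop_sum`, `inv_loop_sum`.
-/
import Cfsg.Agent.Lib.FiTwentyFourCover.CheckFix
import Cfsg.Agent.Lib.FiTwentyFourCover.CheckInv
import Cfsg.Agent.Lib.FiTwentyFourCover.Deduce

set_option autoImplicit false
set_option maxRecDepth 100000

namespace Cfsg.Agent.FiTwentyFourCover

open Cfsg.Agent.FiTwentyFour

theorem sel_spec {T : Twist} {a i : ℕ} (h : Nat.beq (Nat.land (fi24c.sel a) (Nat.lor (T.pos a) (T.neg a))) 0 = true)
    (hi : (fi24c.sel a).testBit i = true) : T.kv a i = 0 := by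
  have e := congrArg (fun x => x.testBit i) (nbeq_iff.mp h)
  change (fi24c.sel a &&& (T.pos a ||| T.neg a)).testBit i = (0 : ℕ).testBit i at e
  simp only [Nat.testBit_and, Nat.testBit_or, hi, Bool.true_and, Nat.zero_testBit, Bool.or_eq_false_iff] at e
  simp [Twist.kv, e.1, e.2]

theorem base_spec {T : Twist} {a : ℕ} (h : (!FiTwentyFour.bit (Nat.lor (T.pos a) (T.neg a)) 0) = true) :
    T.kv a 0 = 0 := by
  simp only [Bool.not_eq_true', FiTwentyFour.bit_eq] at h
  change (T.pos a ||| T.neg a).testBit 0 = false at h
  rw [Nat.testBit_or, Bool.or_eq_false_iff] at h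
  simp only [Twist.kv, h.1, h.2]
  rfl

theorem checks_fix : Checks fixTwist where
  sym := fun a ha => by
    interval_cases a
    · exact fix_sym0
    · exact fix_sym1
    · exact fix_sym2
    · exact fix_sym3
    · exact fix_sym4
    · exact fix_sym5
    · exact fix_sym6
    · exact fix_sym7
    · exact fix_sym8
    · exact fix_sym9
    · exact fix_sym10
    · exact fix_sym11
  sel := fun a ha i hi => by
    interval_cases a
    · exact sel_spec (Bool.and_eq_true_iff.mp fix_sel0).1 hi
    · exact sel_spec fix_sel1 hi
    · exact sel_spec (Bool.and_eq_true_iff.mp fix_sel2).1 hi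
    · exact sel_spec (Bool.and_eq_true_iff.mp fix_sel3).1 hi
    · exact sel_spec (Bool.and_eq_true_iff.mp fix_sel4).1 hi
    · exact sel_spec (Bool.and_eq_true_iff.mp fix_sel5).1 hi
    · exact sel_spec (Bool.and_eq_true_iff.mp fix_sel6).1 hi
    · exact sel_spec (Bool.and_eq_true_iff.mp fix_sel7).1 hi
    · exact sel_spec (Bool.and_eq_true_iff.mp fix_sel8).1 hi
    · exact sel_spec (Bool.and_eq_true_iff.mp fix_sel9).1 hi
    · exact sel_spec (Bool.and_eq_true_iff.mp fix_sel10).1 hi
    · exact sel_spec (Bool.and_eq_true_iff.mp fix_sel11).1 hi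
  base := fun a ha h1 => by
    interval_cases a
    · exact base_spec (Bool.and_eq_true_iff.mp fix_sel0).2
    · exact absurd rfl h1
    · exact base_spec (Bool.and_eq_true_iff.mp fix_sel2).2
    · exact base_spec (Bool.and_eq_true_iff.mp fix_sel3).2
    · exact base_spec (Bool.and_eq_true_iff.mp fix_sel4).2
    · exact base_spec (Bool.and_eq_true_iff.mp fix_sel5).2
    · exact base_spec (Bool.and_eq_true_iff.mp fix_sel6).2
    · exact base_spec (Bool.and_eq_true_iff.mp fix_sel7).2
    · exact base_spec (Bool.and_eq_true_iff.mp fix_sel8).2
    · exact base_spec (Bool.and_eq_true_iff.mp fix_sel9).2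
    · exact base_spec (Bool.and_eq_true_iff.mp fix_sel10).2
    · exact base_spec (Bool.and_eq_true_iff.mp fix_sel11).2
  heads := fun a ha b hb hne => by
    interval_cases a
    · exact List.all_eq_true.mp fix_head0 b (by simp only [List.mem_cons, List.not_mem_nil, or_false]; omega)
    · exact List.all_eq_true.mp fix_head1 b (by simp only [List.mem_cons, List.not_mem_nil, or_false]; omega)
    · exact List.all_eq_true.mp fix_head2 b (by simp only [List.mem_cons, List.not_mem_nil, or_false]; omega)
    · exact List.all_eq_true.mp fix_head3 b (by simp only [List.mem_cons, List.not_mem_nil, or_false]; omega)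
    · exact List.all_eq_true.mp fix_head4 b (by simp only [List.mem_cons, List.not_mem_nil, or_false]; omega)
    · exact List.all_eq_true.mp fix_head5 b (by simp only [List.mem_cons, List.not_mem_nil, or_false]; omega)
    · exact List.all_eq_true.mp fix_head6 b (by simp only [List.mem_cons, List.not_mem_nil, or_false]; omega)
    · exact List.all_eq_true.mp fix_head7 b (by simp only [List.mem_cons, List.not_mem_nil, or_false]; omega)
    · exact List.all_eq_true.mp fix_head8 b (by simp only [List.mem_cons, List.not_mem_nil, or_false]; omega)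
    · exact List.all_eq_true.mp fix_head9 b (by simp only [List.mem_cons, List.not_mem_nil, or_false]; omega)
    · exact List.all_eq_true.mp fix_head10 b (by simp only [List.mem_cons, List.not_mem_nil, or_false]; omega)
    · exact List.all_eq_true.mp fix_head11 b (by simp only [List.mem_cons, List.not_mem_nil, or_false]; omega)
  point0 := fix_point0
  point1 := fix_point1
  point2 := fix_point2
  point3 := fix_point3
  point4 := fix_point4
  point5 := fix_point5
  point6 := fix_point6

theorem checks_inv : Checks invTwist where
  sym := fun a ha => by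
    interval_cases a
    · exact inv_sym0
    · exact inv_sym1
    · exact inv_sym2
    · exact inv_sym3
    · exact inv_sym4
    · exact inv_sym5
    · exact inv_sym6
    · exact inv_sym7
    · exact inv_sym8
    · exact inv_sym9
    · exact inv_sym10
    · exact inv_sym11
  sel := fun a ha i hi => by
    interval_cases a
    · exact sel_spec (Bool.and_eq_true_iff.mp inv_sel0).1 hi
    · exact sel_spec inv_sel1 hi
    · exact sel_spec (Bool.and_eq_true_iff.mp inv_sel2).1 hi
    · exact sel_spec (Bool.and_eq_true_iff.mp inv_sel3).1 hi
    · exact sel_spec (Bool.and_eq_true_iff.mp inv_sel4).1 hi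
    · exact sel_spec (Bool.and_eq_true_iff.mp inv_sel5).1 hi
    · exact sel_spec (Bool.and_eq_true_iff.mp inv_sel6).1 hi
    · exact sel_spec (Bool.and_eq_true_iff.mp inv_sel7).1 hi
    · exact sel_spec (Bool.and_eq_true_iff.mp inv_sel8).1 hi
    · exact sel_spec (Bool.and_eq_true_iff.mp inv_sel9).1 hi
    · exact sel_spec (Bool.and_eq_true_iff.mp inv_sel10).1 hi
    · exact sel_spec (Bool.and_eq_true_iff.mp inv_sel11).1 hi
  base := fun a ha h1 => by
    interval_cases a
    · exact base_spec (Bool.and_eq_true_iff.mp inv_sel0).2
    · exact absurd rfl h1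
    · exact base_spec (Bool.and_eq_true_iff.mp inv_sel2).2
    · exact base_spec (Bool.and_eq_true_iff.mp inv_sel3).2
    · exact base_spec (Bool.and_eq_true_iff.mp inv_sel4).2
    · exact base_spec (Bool.and_eq_true_iff.mp inv_sel5).2
    · exact base_spec (Bool.and_eq_true_iff.mp inv_sel6).2
    · exact base_spec (Bool.and_eq_true_iff.mp inv_sel7).2
    · exact base_spec (Bool.and_eq_true_iff.mp inv_sel8).2
    · exact base_spec (Bool.and_eq_true_iff.mp inv_sel9).2
    · exact base_spec (Bool.and_eq_true_iff.mp inv_sel10).2
    · exact base_spec (Bool.and_eq_true_iff.mp inv_sel11).2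
  heads := fun a ha b hb hne => by
    interval_cases a
    · exact List.all_eq_true.mp inv_head0 b (by simp only [List.mem_cons, List.not_mem_nil, or_false]; omega)
    · exact List.all_eq_true.mp inv_head1 b (by simp only [List.mem_cons, List.not_mem_nil, or_false]; omega)
    · exact List.all_eq_true.mp inv_head2 b (by simp only [List.mem_cons, List.not_mem_nil, or_false]; omega)
    · exact List.all_eq_true.mp inv_head3 b (by simp only [List.mem_cons, List.not_mem_nil, or_false]; omega)
    · exact List.all_eq_true.mp inv_head4 b (by simp only [List.mem_cons, List.not_mem_nil, or_false]; omega)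
    · exact List.all_eq_true.mp inv_head5 b (by simp only [List.mem_cons, List.not_mem_nil, or_false]; omega)
    · exact List.all_eq_true.mp inv_head6 b (by simp only [List.mem_cons, List.not_mem_nil, or_false]; omega)
    · exact List.all_eq_true.mp inv_head7 b (by simp only [List.mem_cons, List.not_mem_nil, or_false]; omega)
    · exact List.all_eq_true.mp inv_head8 b (by simp only [List.mem_cons, List.not_mem_nil, or_false]; omega)
    · exact List.all_eq_true.mp inv_head9 b (by simp only [List.mem_cons, List.not_mem_nil, or_false]; omega)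
    · exact List.all_eq_true.mp inv_head10 b (by simp only [List.mem_cons, List.not_mem_nil, or_false]; omega)
    · exact List.all_eq_true.mp inv_head11 b (by simp only [List.mem_cons, List.not_mem_nil, or_false]; omega)
  point0 := inv_point0
  point1 := inv_point1
  point2 := inv_point2
  point3 := inv_point3
  point4 := inv_point4
  point5 := inv_point5
  point6 := inv_point6

theorem fix_loop_sum : fixTwist.psum fi24c relE7 18896 = 1 := by
  rw [Twist.sumIs_spec fix_loop]; rfl

theorem inv_loop_sum : invTwist.psum fi24c (word24 0 1) 172160 = 3 := by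
  rw [Twist.sumIs_spec inv_loop]; rfl

end Cfsg.Agent.FiTwentyFourCover
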