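/-
Fi24 acts faithfully on its 306936 points, and a word permutes three commuting generators cyclically.
Main results: `rho24_inj`, `rot_zero`, `rot_two`, `rot_nine`.
-/
import Cfsg.Agent.Lib.FiTwentyFour.Group

set_option autoImplicit false
set_option maxRecDepth 100000

namespace Cfsg.Agent.FiTwentyFourCover

open Cfsg.Agent.FiTwentyFour

/-- Fi24 acts faithfully. -/
theorem rho24_inj : Function.Injective rho24 := by
  rw [← MonoidHom.ker_eq_bot_iff, eq_bot_iff]
  intro g hg
  rw [MonoidHom.mem_ker] at hg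
  have hconj : ∀ u : G24, Commute g (u * x24 0 * u⁻¹) := by
    intro u
    have h : rho24 (u⁻¹ * g * u) p24 = p24 := by
      rw [map_mul, map_mul, hg, mul_one, ← map_mul, inv_mul_cancel, map_one, Equiv.Perm.one_apply]
    have hc := (act24.stab_iff_commute _).1 h
    show g * (u * x24 0 * u⁻¹) = u * x24 0 * u⁻¹ * g
    calc g * (u * x24 0 * u⁻¹) = u * (u⁻¹ * g * u * x24 0) * u⁻¹ := by group
      _ = u * (x24 0 * (u⁻¹ * g * u)) * u⁻¹ := by rw [hc]
      _ = _ := by group
  have hgen : ∀ a < 12, Commute g (x24 a) := by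
    intro a ha
    obtain ⟨u, hu⟩ := isConj_iff.1 (show IsConj (x24 0) (x24 a) from act24.el_class ha)
    rw [← hu]; exact hconj u
  have hz : g ∈ Subgroup.center G24 := by
    rw [Subgroup.mem_center_iff]
    intro x
    have hx : x ∈ Subgroup.closure (x24 '' {a | a < 12}) := by rw [gens24]; trivial
    induction hx using Subgroup.closure_induction with
    | mem x hx => obtain ⟨a, ha, rfl⟩ := hx; exact (hgen a ha).eq.symm
    | one => simp
    | mul x y _ _ hx hy => rw [mul_assoc, hy, ← mul_assoc, hx, mul_assoc]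
    | inv x _ hx => exact ((show Commute x g from hx).inv_left).eq
  rw [act24.center_eq_bot] at hz
  exact hz

/-- A word moving the generators 0, 2, 9 cyclically. -/
def rotWord : List ℕ :=
  [3, 4, 5, 6, 7, 8, 9, 2, 3, 4, 5, 6, 7, 8, 6, 7, 5, 6, 4, 5, 3, 4, 2, 3, 1, 2, 0, 1]

/-- A word conjugating the first generator to the ninth one. -/
def nineWord : List ℕ := [1, 0, 2, 1, 3, 2, 4, 3, 5, 4, 6, 5, 7, 6, 8, 7, 9, 8]

theorem conj_nine : ev x24 nineWord * x24 0 * (ev x24 nineWord)⁻¹ = x24 9 := by
  have step : ∀ {w : List ℕ} {a b : ℕ}, a < 12 → b < 12 → lab24 a b = 3 →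
      ev x24 w * x24 0 * (ev x24 w)⁻¹ = x24 a →
      ev x24 (w ++ [b, a]) * x24 0 * (ev x24 (w ++ [b, a]))⁻¹ = x24 b := by
    intro w a b ha hb hl h
    rw [ev_append, show ev x24 [b, a] = x24 a * x24 b by simp [ev]]
    calc x24 a * x24 b * ev x24 w * x24 0 * (x24 a * x24 b * ev x24 w)⁻¹
        = x24 a * x24 b * (ev x24 w * x24 0 * (ev x24 w)⁻¹) * (x24 a * x24 b)⁻¹ := by group
      _ = x24 b := by
        rw [h]
        exact (FischerExist.conj_of_braid (x24_sq ha) (x24_sq hb) (hl ▸ x24_pow ha hb)).symm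
  have h1 := step (w := []) (a := 0) (b := 1) (by norm_num) (by norm_num) (by decide) (by simp [ev])
  have h2 := step (b := 2) (by norm_num) (by norm_num) (by decide) h1
  have h3 := step (b := 3) (by norm_num) (by norm_num) (by decide) h2
  have h4 := step (b := 4) (by norm_num) (by norm_num) (by decide) h3
  have h5 := step (b := 5) (by norm_num) (by norm_num) (by decide) h4
  have h6 := step (b := 6) (by norm_num) (by norm_num) (by decide) h5
  have h7 := step (b := 7) (by norm_num) (by norm_num) (by decide) h6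
  have h8 := step (b := 8) (by norm_num) (by norm_num) (by decide) h7
  exact step (b := 9) (by norm_num) (by norm_num) (by decide) h8

theorem rot_check : (Nat.beq (tw fi24c.net rotWord 0) (tw fi24c.net [1, 0, 2, 1] 0) &&
    (Nat.beq (tw fi24c.net ([1, 0, 2, 1] ++ rotWord) 0) (tw fi24c.net nineWord 0) &&
      Nat.beq (tw fi24c.net (nineWord ++ rotWord) 0) 0)) = true := by
  decide +kernel

/-- Conjugates of the first generator agree when their points do. -/
theorem conj_of_point {u v : List ℕ} (hu : ∀ c ∈ u, c < 12) (hv : ∀ c ∈ v, c < 12)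
    (h : tw fi24c.net u 0 = tw fi24c.net v 0) :
    ev x24 u * x24 0 * (ev x24 u)⁻¹ = ev x24 v * x24 0 * (ev x24 v)⁻¹ := by
  have e : rho24 (ev x24 u) p24 = rho24 (ev x24 v) p24 := Fin.ext (by rw [rho24_word u hu, rho24_word v hv]; exact h)
  have hfix : rho24 ((ev x24 v)⁻¹ * ev x24 u) p24 = p24 := by
    rw [map_mul, map_inv, Equiv.Perm.mul_apply, e]
    exact (rho24 (ev x24 v)).symm_apply_apply _
  have hc := (act24.stab_iff_commute _).1 hfix
  calc ev x24 u * x24 0 * (ev x24 u)⁻¹
      = ev x24 v * ((ev x24 v)⁻¹ * ev x24 u * x24 0) * (ev x24 u)⁻¹ := by group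
    _ = ev x24 v * (x24 0 * ((ev x24 v)⁻¹ * ev x24 u)) * (ev x24 u)⁻¹ := by rw [hc]
    _ = _ := by group

theorem rot_zero : ev x24 rotWord * x24 0 * (ev x24 rotWord)⁻¹ = x24 2 := by
  have h := rot_check
  simp only [Bool.and_eq_true, nbeq_iff] at h
  rw [conj_of_point (v := [1, 0, 2, 1]) (by decide +kernel) (by decide +kernel) h.1, word_near, act24.near_conj]

theorem rot_two : ev x24 rotWord * x24 2 * (ev x24 rotWord)⁻¹ = x24 9 := by
  have h := rot_check
  simp only [Bool.and_eq_true, nbeq_iff] at h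
  have e := conj_of_point (u := [1, 0, 2, 1] ++ rotWord) (v := nineWord) (by decide +kernel) (by decide +kernel) h.2.1
  rw [conj_nine, ev_append, word_near] at e
  rw [← act24.near_conj, ← e]
  group

theorem rot_nine : ev x24 rotWord * x24 9 * (ev x24 rotWord)⁻¹ = x24 0 := by
  have h := rot_check
  simp only [Bool.and_eq_true, nbeq_iff] at h
  have e := conj_of_point (u := nineWord ++ rotWord) (v := []) (by decide +kernel) (by decide +kernel)
    (by rw [h.2.2, tw_nil])
  rw [ev_append] at e
  simp only [ev, one_mul, inv_one, mul_one] at e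
  rw [← conj_nine]
  refine Eq.trans ?_ e
  group

end Cfsg.Agent.FiTwentyFourCover
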