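/-
An extension of Fi24 as in `Ext` whose chosen involution centralises the kernel is trivial.
Main results: `Ext.lift`, `Ext.lift_rel`, `Ext.trivial_of_section`, `Ext.central_trivial`.
-/
import Cfsg.Agent.Lib.FiTwentyFourCover.Base
import Cfsg.Agent.Lib.FiTwentyFourCover.Rotation
import Cfsg.Agent.Lib.FiTwentyFourCover.Deduce
import Cfsg.Agent.Lib.FiTwentyFourCover.Checks

set_option autoImplicit false
set_option maxRecDepth 10000

namespace Cfsg.Agent.FiTwentyFourCover

open Cfsg.Agent.FiTwentyFour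
open Cfsg.Agent.FischerExist (hsub conj_of_braid farG)
open scoped commutatorElement

noncomputable section

/-- Words of even length in some letters lie where their products of two do. -/
theorem even_list_mem {E : Type*} [Group E] {el : ℕ → E} (D : Subgroup E) (L : List ℕ)
    (hD : ∀ a ∈ L, ∀ b ∈ L, el a * el b ∈ D) :
    ∀ v : List ℕ, (∀ a ∈ v, a ∈ L) → Even v.length → ev el v ∈ D
  | [], _, _ => one_mem D
  | [a], _, h => by simp at h
  | a :: b :: v, hv, h => by
    show ev el v * el b * el a ∈ D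
    rw [mul_assoc]
    refine mul_mem (even_list_mem D L hD v (fun c hc => hv c (List.mem_cons_of_mem _ (List.mem_cons_of_mem _ hc))) ?_)
      (hD b (hv b (List.mem_cons_of_mem _ List.mem_cons_self)) a (hv a List.mem_cons_self))
    simpa [Nat.even_add_one] using h

/-- Twelve elements with all the relations give a homomorphism of Fi24. -/
theorem exists_hom24 {H : Type} [Group H] (el : ℕ → H) (pow : ∀ a < 12, ∀ b < 12, (el a * el b) ^ lab24 a b = 1)
    (seven : ev el relE7 = 1) (hprod : ev el prodWord = 1) : ∃ s : G24 →* H, ∀ a < 12, s (x24 a) = el a := by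
  have hsq : ∀ a < 12, (el a)⁻¹ = el a := fun a ha =>
    inv_eq_of_mul_eq_one_right (by simpa [lab24] using pow a ha a ha)
  have hrels : ∀ r ∈ Cfsg.Spor.coxRelators Cfsg.Spor.Fi24.edges ∪ {r | r ∈ Cfsg.Spor.Fi24.extra},
      FreeGroup.lift (fun x => el (idx24 x)) r = 1 := by
    rintro r (⟨x, -, z, -, rfl⟩ | hr)
    · rw [map_pow, map_mul, FreeGroup.lift_apply_of, FreeGroup.lift_apply_of, ← gen24_idx24 x, ← gen24_idx24 z,
        (label_spec (idx24_lt x) (idx24_lt z)).1, gen24_idx24, gen24_idx24]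
      exact pow _ (idx24_lt x) _ (idx24_lt z)
    · have hr' : r ∈ Cfsg.Spor.Fi24.extra := hr
      simp only [Cfsg.Spor.Fi24.extra, List.mem_cons, List.not_mem_nil, or_false] at hr'
      rcases hr' with rfl | rfl
      · have e := seven
        have e7 : ev (el) wordSeven = (el 2 * el 3 * el 4 * el 5 * el 6 * el 7 *
            el 10)⁻¹ := by
          simp only [mul_inv_rev, wordSeven, ev, one_mul, hsq 2 (by norm_num), hsq 3 (by norm_num),
            hsq 4 (by norm_num), hsq 5 (by norm_num), hsq 6 (by norm_num), hsq 7 (by norm_num), hsq 10 (by norm_num),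
            mul_assoc]
        rw [relE7_eq, ev_append, ev_flatten_replicate, e7, inv_pow] at e
        simpa [ev, idx24] using e
      · rw [prodWord, ev_flatten_replicate] at hprod
        rw [map_pow]
        simp only [map_mul, FreeGroup.lift_apply_of, idx24]
        simp only [relProd, ev, one_mul] at hprod
        exact hprod
  refine ⟨PresentedGroup.toGroup hrels, fun a ha => ?_⟩
  rw [x24, PresentedGroup.toGroup.of, idx24_gen24 ha]

namespace Ext

variable {E : Type} [Group E] (X : Ext E)

/-- The lift of a letter of the point stabiliser. -/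
def lift (a : ℕ) : E :=
  if a = 0 then X.τ else if h : 2 ≤ a ∧ a < 12 then
    (X.exists_lift (x24_mem h.2 (by omega))).choose else 1

theorem lift_spec {a : ℕ} (ha : a < 12) (h1 : a ≠ 1) : X.lift a ∈ X.S ∧ X.π (X.lift a) = x24 a := by
  by_cases h0 : a = 0
  · subst h0
    rw [lift, if_pos rfl]
    exact ⟨X.τ_mem_S, X.τ_map⟩
  · rw [lift, if_neg h0, dif_pos ⟨by omega, ha⟩]
    exact (X.exists_lift (x24_mem ha (by omega))).choose_spec

theorem lift_zero : X.lift 0 = X.τ := by rw [lift, if_pos rfl]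

/-- The lifts with a chosen element above the second generator. -/
def el (y : E) (a : ℕ) : E := if a = 1 then y else X.lift a

theorem el_one (y : E) : X.el y 1 = y := if_pos rfl

theorem el_ne (y : E) {a : ℕ} (h : a ≠ 1) : X.el y a = X.lift a := if_neg h

theorem el_map {y : E} (hy : X.π y = x24 1) {a : ℕ} (ha : a < 12) : X.π (X.el y a) = x24 a := by
  by_cases h : a = 1
  · subst h; rw [el_one, hy]
  · rw [X.el_ne y h, (X.lift_spec ha h).2]

theorem ev_map {y : E} (hy : X.π y = x24 1) : ∀ v : List ℕ, (∀ a ∈ v, a < 12) → X.π (ev (X.el y) v) = ev x24 v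
  | [], _ => map_one _
  | a :: v, hv => by
    show X.π (ev (X.el y) v * X.el y a) = _
    rw [map_mul, ev_map hy v (fun b hb => hv b (List.mem_cons_of_mem a hb)), X.el_map hy (hv a List.mem_cons_self)]
    rfl

variable [Finite E]

/-- Relations among the letters of the point stabiliser lift. -/
theorem lift_rel {y : E} (hy : X.π y = x24 1) {v : List ℕ} (hv : ∀ a ∈ v, a < 12 ∧ a ≠ 1)
    (h : ev x24 v = 1) : ev (X.el y) v = 1 := by
  refine X.sec_ext ?_ (by rw [X.ev_map hy v fun a ha => (hv a ha).1, h])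
  have : ∀ w : List ℕ, (∀ a ∈ w, a < 12 ∧ a ≠ 1) → ev (X.el y) w ∈ X.S := by
    intro w
    induction w with
    | nil => intro _; exact one_mem _
    | cons a w ih =>
      intro hw
      refine mul_mem (ih fun b hb => hw b (List.mem_cons_of_mem a hb)) ?_
      obtain ⟨ha, h1⟩ := hw a List.mem_cons_self
      rw [X.el_ne y h1]
      exact (X.lift_spec ha h1).1
  exact this v hv

theorem lift_seven {y : E} (hy : X.π y = x24 1) : ev (X.el y) relE7 = 1 :=
  X.lift_rel hy (fun a ha => of_decide_eq_true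
    (List.all_eq_true.mp (show relE7.all (fun a => decide (a < 12 ∧ a ≠ 1)) = true by decide +kernel) a ha)) x24_relE7

theorem lift_spider {y : E} (hy : X.π y = x24 1) : ev (X.el y) relSpider = 1 :=
  X.lift_rel hy (fun a ha => of_decide_eq_true
    (List.all_eq_true.mp (show relSpider.all (fun a => decide (a < 12 ∧ a ≠ 1)) = true by decide +kernel) a ha))
    spider24

theorem lift_pow {a b : ℕ} (ha : a < 12) (ha1 : a ≠ 1) (hb : b < 12) (hb1 : b ≠ 1) :
    (X.lift a * X.lift b) ^ lab24 a b = 1 :=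
  X.sec_ext (pow_mem (mul_mem (X.lift_spec ha ha1).1 (X.lift_spec hb hb1).1) _)
    (by rw [map_pow, map_mul, (X.lift_spec ha ha1).2, (X.lift_spec hb hb1).2, x24_pow ha hb])

theorem lift_sq {a : ℕ} (ha : a < 12) (ha1 : a ≠ 1) : X.lift a * X.lift a = 1 := by
  simpa [lab24] using X.lift_pow ha ha1 ha ha1

theorem coxOn : CoxOn X.lift 2 := ⟨fun a b h1 h2 h3 h4 => X.lift_pow h2 (by omega) h4 (by omega)⟩

omit [Finite E] in
/-- A splitting homomorphism leaves no kernel. -/
theorem trivial_of_section (s : G24 →* E) (hs : ∀ g, X.π (s g) = g) {k : E} (hk : X.π k = 1) : k = 1 := by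
  have hle : evenPart X.π ≤ s.range := by
    refine le_trans X.perfect (Subgroup.commutator_le.2 fun p hp q hq => ?_)
    rw [← X.commutator_congr hp hq (hs (X.π p)) (hs (X.π q)), commutatorElement_def]
    exact mul_mem (mul_mem (mul_mem ⟨_, rfl⟩ ⟨_, rfl⟩) (inv_mem ⟨_, rfl⟩)) (inv_mem ⟨_, rfl⟩)
  obtain ⟨g, rfl⟩ := hle (X.kernel_even hk)
  rw [hs] at hk
  rw [hk, map_one]

/-- The section of lifts with all relations. -/
theorem exists_section {y : E} (hy : X.π y = x24 1) (pow : ∀ a < 12, ∀ b < 12, (X.el y a * X.el y b) ^ lab24 a b = 1)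
    (hprod : ev (X.el y) prodWord = 1) : ∃ s : G24 →* E, ∀ g, X.π (s g) = g := by
  obtain ⟨s, hs⟩ := exists_hom24 (X.el y) pow (X.lift_seven hy) hprod
  refine ⟨s, fun g => DFunLike.congr_fun (PresentedGroup.ext (φ := X.π.comp s) (ψ := MonoidHom.id G24) fun x => ?_) g⟩
  rw [MonoidHom.comp_apply, show PresentedGroup.of x = x24 (idx24 x) by rw [x24, gen24_idx24], hs _ (idx24_lt x),
    X.el_map hy (idx24_lt x), MonoidHom.id_apply]

variable (hτ : ∀ k, X.π k = 1 → Commute X.τ k)
include hτ

omit [Finite E] in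
theorem kernel_center {k : E} (hk : X.π k = 1) (e : E) : Commute k e := by
  rcases Int.units_eq_one_or (sign24 (X.π e)) with h | h
  · exact X.central k hk e (mem_evenPart.2 h)
  · have h1 : Commute k (X.τ * e) := X.central k hk _ (mem_evenPart.2 (by
      rw [map_mul, map_mul, h, X.τ_map, sign24_x]; decide))
    have h2 := ((hτ k hk).symm.mul_right h1)
    rwa [← mul_assoc, X.τ_sq, one_mul] at h2

omit [Finite E] in
/-- Conjugates of the chosen involution are determined by their images. -/
theorem conj_eq {g h : E} (e : X.π (g * X.τ * g⁻¹) = X.π (h * X.τ * h⁻¹)) :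
    g * X.τ * g⁻¹ = h * X.τ * h⁻¹ := by
  have hc : Commute X.τ (h⁻¹ * g) := by
    have hm : X.π (h⁻¹ * g) ∈ H24 := by
      rw [← hsub_eq]
      refine (act24.stab _).1 ((act24.stab_iff_commute _).2 ?_)
      simp only [map_mul, map_inv, X.τ_map] at e ⊢
      calc (X.π h)⁻¹ * X.π g * x24 0 = (X.π h)⁻¹ * (X.π g * x24 0 * (X.π g)⁻¹) * X.π g := by group
        _ = (X.π h)⁻¹ * (X.π h * x24 0 * (X.π h)⁻¹) * X.π g := by rw [e]
        _ = _ := by group
    obtain ⟨s, hs, es⟩ := X.exists_lift hm
    have hk : X.π (s⁻¹ * (h⁻¹ * g)) = 1 := by rw [map_mul, map_inv, es, inv_mul_cancel]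
    have := (X.S_comm hs).mul_right (hτ _ hk)
    rwa [mul_inv_cancel_left] at this
  calc g * X.τ * g⁻¹ = h * ((h⁻¹ * g) * X.τ * (h⁻¹ * g)⁻¹) * h⁻¹ := by group
    _ = _ := by rw [← hc.eq, mul_inv_cancel_right]

omit [Finite E] hτ in
theorem conj_sq (g : E) : g * X.τ * g⁻¹ * (g * X.τ * g⁻¹) = 1 := by
  calc g * X.τ * g⁻¹ * (g * X.τ * g⁻¹) = g * (X.τ * X.τ) * g⁻¹ := by group
    _ = 1 := by rw [X.τ_sq, mul_one, mul_inv_cancel]

/-- Each letter of the point stabiliser lifts to a conjugate of the chosen involution. -/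
theorem lift_conj {a : ℕ} (ha : a < 12) (h1 : a ≠ 1) : ∃ g : E, g * X.τ * g⁻¹ = X.lift a := by
  rcases Nat.eq_zero_or_pos a with rfl | hpos
  · exact ⟨1, by rw [X.lift_zero]; simp⟩
  obtain ⟨g, hg⟩ := X.surj (ev x24 rotWord)
  -- the discrepancy at the third letter
  set z := (g * X.τ * g⁻¹)⁻¹ * X.lift 2 with hz
  have hT2 : X.π (g * X.τ * g⁻¹) = x24 2 := by rw [map_mul, map_mul, map_inv, X.τ_map, hg, rot_zero]
  have hzk : X.π z = 1 := by
    rw [hz, map_mul, map_inv, hT2, (X.lift_spec (by norm_num) (by norm_num)).2, inv_mul_cancel]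
  have hzc := X.kernel_center hτ hzk
  have h2 : X.lift 2 = g * X.τ * g⁻¹ * z := by rw [hz, mul_inv_cancel_left]
  -- the same discrepancy at all letters
  have step : ∀ b c, 2 ≤ b → b < 12 → 2 ≤ c → c < 12 → lab24 b c = 3 →
      (∃ w, X.lift b = w * X.τ * w⁻¹ * z) → ∃ w, X.lift c = w * X.τ * w⁻¹ * z := by
    rintro b c hb hb' hc hc' hl ⟨w, hw⟩
    refine ⟨X.lift b * X.lift c * w, ?_⟩
    have hbr := X.lift_pow hb' (by omega) hc' (show c ≠ 1 by omega)
    rw [hl] at hbr
    have e := conj_of_braid (X.lift_sq hb' (by omega)) (X.lift_sq hc' (show c ≠ 1 by omega)) hbr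
    calc X.lift c = X.lift b * X.lift c * X.lift b * (X.lift b * X.lift c)⁻¹ := e
      _ = X.lift b * X.lift c * (w * X.τ * w⁻¹) * (z * (X.lift b * X.lift c)⁻¹) := by
          nth_rewrite 2 [hw]; group
      _ = X.lift b * X.lift c * (w * X.τ * w⁻¹) * ((X.lift b * X.lift c)⁻¹ * z) := by rw [(hzc _).eq]
      _ = _ := by group
  have all : ∀ b, 2 ≤ b → b < 12 → ∃ w, X.lift b = w * X.τ * w⁻¹ * z := by
    have k2 : ∃ w, X.lift 2 = w * X.τ * w⁻¹ * z := ⟨g, h2⟩
    have k3 := step 2 3 le_rfl (by norm_num) (by norm_num) (by norm_num) (by decide) k2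
    have k4 := step 3 4 (by norm_num) (by norm_num) (by norm_num) (by norm_num) (by decide) k3
    have k5 := step 4 5 (by norm_num) (by norm_num) (by norm_num) (by norm_num) (by decide) k4
    have k6 := step 5 6 (by norm_num) (by norm_num) (by norm_num) (by norm_num) (by decide) k5
    have k7 := step 6 7 (by norm_num) (by norm_num) (by norm_num) (by norm_num) (by decide) k6
    have k8 := step 7 8 (by norm_num) (by norm_num) (by norm_num) (by norm_num) (by decide) k7
    have k9 := step 8 9 (by norm_num) (by norm_num) (by norm_num) (by norm_num) (by decide) k8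
    have k10 := step 5 10 (by norm_num) (by norm_num) (by norm_num) (by norm_num) (by decide) k5
    have k11 := step 10 11 (by norm_num) (by norm_num) (by norm_num) (by norm_num) (by decide) k10
    intro b hb hb'
    interval_cases b <;> assumption
  -- conjugation by the rotation keeps a product of two in the split part
  have key : g * (X.τ * X.lift 2) * g⁻¹ ∈ X.S := by
    let L := [2, 3, 4, 5, 6, 7, 10]
    have hL : ∀ b ∈ L, 2 ≤ b ∧ b < 12 ∧ lab24 9 b = 2 := by decide +kernel
    let D : Subgroup E := X.S.comap (MulAut.conj g).toMonoidHom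
    have hin : ∀ b ∈ L, ∃ s ∈ X.S, X.π s = X.π (g * X.lift b * g⁻¹) := by
      intro b hb
      obtain ⟨hb2, hb12, hl⟩ := hL b hb
      refine X.exists_lift ?_
      rw [map_mul, map_mul, map_inv, hg, (X.lift_spec hb12 (by omega)).2, ← hsub_eq]
      refine (act24.stab _).1 ((act24.stab_iff_commute _).2 ?_)
      rw [← rot_nine]
      have hc := (x24_comm (show 9 < 12 by norm_num) hb12 hl).eq
      calc ev x24 rotWord * x24 b * (ev x24 rotWord)⁻¹ * (ev x24 rotWord * x24 9 * (ev x24 rotWord)⁻¹)
          = ev x24 rotWord * (x24 b * x24 9) * (ev x24 rotWord)⁻¹ := by group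
        _ = ev x24 rotWord * (x24 9 * x24 b) * (ev x24 rotWord)⁻¹ := by rw [hc]
        _ = _ := by group
    have hpair : ∀ b c e, b ∈ L → c ∈ L → e ∈ L → lab24 b c = 3 → lab24 b e = 2 → lab24 c e = 2 →
        X.lift b * X.lift c ∈ D := by
      intro b c e hb hc he hl hbe hce
      obtain ⟨hb2, hb12, -⟩ := hL b hb
      obtain ⟨hc2, hc12, -⟩ := hL c hc
      obtain ⟨he2, he12, -⟩ := hL e he
      obtain ⟨sb, hsb, esb⟩ := hin b hb
      obtain ⟨sc, hsc, esc⟩ := hin c hc
      obtain ⟨se, hse, ese⟩ := hin e he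
      have O := X.coxOn
      rw [← mul_eq_commutator (O.sq hb2 hb12) (O.sq hc2 hc12) (O.sq he2 he12) (O.comm hb2 hb12 he2 he12 hbe)
        (O.comm hc2 hc12 he2 he12 hce) (hl ▸ O.pow b c hb2 hb12 hc2 hc12)]
      show g * ⁅X.lift b * X.lift e, X.lift b * X.lift c⁆ * g⁻¹ ∈ X.S
      have hev : ∀ p q, 2 ≤ p → p < 12 → 2 ≤ q → q < 12 → g * (X.lift p * X.lift q) * g⁻¹ ∈ evenPart X.π := by
        intro p q hp hp' hq hq'
        rw [mem_evenPart]
        simp only [map_mul, map_inv, (X.lift_spec hp' (show p ≠ 1 by omega)).2,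
          (X.lift_spec hq' (show q ≠ 1 by omega)).2, sign24_x]
        simp
      rw [show g * ⁅X.lift b * X.lift e, X.lift b * X.lift c⁆ * g⁻¹ =
          ⁅g * (X.lift b * X.lift e) * g⁻¹, g * (X.lift b * X.lift c) * g⁻¹⁆ by
        simp only [commutatorElement_def]; group]
      rw [← X.commutator_congr (p' := sb * se) (q' := sb * sc) (hev b e hb2 hb12 he2 he12)
        (hev b c hb2 hb12 hc2 hc12) (by simp only [map_mul, esb, ese, map_inv]; group)
        (by simp only [map_mul, esb, esc, map_inv]; group), commutatorElement_def]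
      exact mul_mem (mul_mem (mul_mem (mul_mem hsb hse) (mul_mem hsb hsc)) (inv_mem (mul_mem hsb hse)))
        (inv_mem (mul_mem hsb hsc))
    have hflip : ∀ p q, p ∈ L → q ∈ L → X.lift p * X.lift q ∈ D → X.lift q * X.lift p ∈ D := by
      intro p q hp hq h
      have := inv_mem h
      rwa [mul_inv_rev, inv_eq_of_mul_eq_one_right (X.lift_sq (hL p hp).2.1 (by have := (hL p hp).1; omega)),
        inv_eq_of_mul_eq_one_right (X.lift_sq (hL q hq).2.1 (by have := (hL q hq).1; omega))] at this
    have hchain : ∀ p q r, q ∈ L → X.lift p * X.lift q ∈ D → X.lift q * X.lift r ∈ D → X.lift p * X.lift r ∈ D := by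
      intro p q r hq h1 h2
      have := mul_mem h1 h2
      rwa [mul_assoc, ← mul_assoc (X.lift q), X.lift_sq (hL q hq).2.1 (by have := (hL q hq).1; omega), one_mul] at this
    have p45 := hpair 4 5 2 (by decide) (by decide) (by decide) (by decide) (by decide) (by decide)
    have p34 := hpair 3 4 6 (by decide) (by decide) (by decide) (by decide) (by decide) (by decide)
    have p23 := hpair 2 3 5 (by decide) (by decide) (by decide) (by decide) (by decide) (by decide)
    have p65 := hpair 6 5 2 (by decide) (by decide) (by decide) (by decide) (by decide) (by decide)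
    have p76 := hpair 7 6 2 (by decide) (by decide) (by decide) (by decide) (by decide) (by decide)
    have p105 := hpair 10 5 2 (by decide) (by decide) (by decide) (by decide) (by decide) (by decide)
    have to5 : ∀ b ∈ L, X.lift b * X.lift 5 ∈ D := by
      intro b hb
      simp only [L, List.mem_cons, List.not_mem_nil, or_false] at hb
      rcases hb with rfl | rfl | rfl | rfl | rfl | rfl | rfl
      · exact hchain 2 3 5 (by decide) p23 (hchain 3 4 5 (by decide) p34 p45)
      · exact hchain 3 4 5 (by decide) p34 p45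
      · exact p45
      · rw [X.lift_sq (by norm_num) (by norm_num)]; exact one_mem D
      · exact p65
      · exact hchain 7 6 5 (by decide) p76 p65
      · exact p105
    have hD : ∀ b ∈ L, ∀ c ∈ L, X.lift b * X.lift c ∈ D := fun b hb c hc =>
      hchain b 5 c (by decide) (to5 b hb) (hflip c 5 hc (by decide) (to5 c hc))
    let v := 2 :: (List.replicate 9 [10, 7, 6, 5, 4, 3, 2]).flatten
    have hv : ev X.lift v = X.τ * X.lift 2 := by
      have hmem : ev X.lift v ∈ X.S := by
        show ev X.lift (List.replicate 9 [10, 7, 6, 5, 4, 3, 2]).flatten * X.lift 2 ∈ X.S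
        refine mul_mem ?_ (X.lift_spec (by norm_num) (by norm_num)).1
        rw [ev_flatten_replicate]
        refine pow_mem ?_ _
        simp only [ev, one_mul]
        have hs : ∀ b, 2 ≤ b → b < 12 → X.lift b ∈ X.S := fun b hb hb' => (X.lift_spec hb' (by omega)).1
        exact mul_mem (mul_mem (mul_mem (mul_mem (mul_mem (mul_mem (hs 2 le_rfl (by norm_num)) (hs 3 (by norm_num)
          (by norm_num))) (hs 4 (by norm_num) (by norm_num))) (hs 5 (by norm_num) (by norm_num)))
          (hs 6 (by norm_num) (by norm_num))) (hs 7 (by norm_num) (by norm_num))) (hs 10 (by norm_num) (by norm_num))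
      have := X.sec_ext (x := ev X.lift v * (X.τ * X.lift 2)⁻¹) (mul_mem hmem (inv_mem (mul_mem X.τ_mem_S
        (X.lift_spec (by norm_num) (by norm_num)).1))) (by
          have hπ : ∀ b, 2 ≤ b → b < 12 → X.π (X.lift b) = x24 b := fun b hb hb' =>
            (X.lift_spec hb' (by omega)).2
          show X.π (ev X.lift (List.replicate 9 [10, 7, 6, 5, 4, 3, 2]).flatten * X.lift 2 * (X.τ * X.lift 2)⁻¹) = 1
          rw [ev_flatten_replicate]
          simp only [ev, one_mul, map_mul, map_pow, map_inv, X.τ_map, hπ 2 le_rfl (by norm_num),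
            hπ 3 (by norm_num) (by norm_num), hπ 4 (by norm_num) (by norm_num), hπ 5 (by norm_num) (by norm_num),
            hπ 6 (by norm_num) (by norm_num), hπ 7 (by norm_num) (by norm_num), hπ 10 (by norm_num) (by norm_num)]
          rw [x24_seven, mul_inv_cancel])
      exact mul_inv_eq_one.mp this
    have hmemD : ev X.lift v ∈ D := even_list_mem D L hD v (fun b hb => by
      revert b; decide +kernel) (by decide +kernel)
    rw [hv] at hmemD
    exact hmemD
  obtain ⟨w9, hw9⟩ := all 9 (by norm_num) (by norm_num)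
  have e9 : g * (g * X.τ * g⁻¹) * g⁻¹ = w9 * X.τ * w9⁻¹ := by
    have := X.conj_eq hτ (g := g * g) (h := w9) (by
      have hw : X.π (w9 * X.τ * w9⁻¹) = x24 9 := by
        have e := congrArg X.π hw9
        rw [map_mul, hzk, mul_one, (X.lift_spec (by norm_num) (by norm_num)).2] at e
        exact e.symm
      rw [hw, ← rot_two, ← rot_zero]
      simp only [map_mul, map_inv, hg, X.τ_map]
      group)
    rw [← this]; group
  have eprod : g * (X.τ * X.lift 2) * g⁻¹ = X.lift 2 * X.lift 9 * z⁻¹ := by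
    have c1 := (hzc g⁻¹).eq
    have c2 := (hzc (w9 * X.τ * w9⁻¹)).eq
    calc g * (X.τ * X.lift 2) * g⁻¹ = g * X.τ * g⁻¹ * (g * (g * X.τ * g⁻¹) * (z * g⁻¹)) := by rw [h2]; group
      _ = g * X.τ * g⁻¹ * (g * (g * X.τ * g⁻¹) * (g⁻¹ * z)) := by rw [c1]
      _ = g * X.τ * g⁻¹ * (w9 * X.τ * w9⁻¹ * z) := by rw [← e9]; group
      _ = g * X.τ * g⁻¹ * (z * (w9 * X.τ * w9⁻¹ * z)) * z⁻¹ := by
          rw [show g * X.τ * g⁻¹ * (z * (w9 * X.τ * w9⁻¹ * z)) * z⁻¹ =
            g * X.τ * g⁻¹ * (z * (w9 * X.τ * w9⁻¹)) by group, c2]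
      _ = _ := by rw [← hw9, ← mul_assoc, ← h2]
  have hz1 : z = 1 := by
    refine X.sec_ext ?_ hzk
    have h29 := mul_mem (X.lift_spec (show 2 < 12 by norm_num) (by norm_num)).1
      (X.lift_spec (show 9 < 12 by norm_num) (by norm_num)).1
    have := mul_mem (inv_mem key) h29
    rwa [eprod, mul_inv_rev, inv_inv, inv_mul_cancel_right] at this
  obtain ⟨w, hw⟩ := all a (by omega) ha
  exact ⟨w, by rw [hw, hz1, mul_one]⟩

/-- An extension whose chosen involution centralises the kernel is trivial. -/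
theorem central_trivial {k : E} (hk : X.π k = 1) : k = 1 := by
  obtain ⟨g, hg⟩ := X.surj (farG x24)
  set y := g * X.τ * g⁻¹ with hy_def
  have hy : X.π y = x24 1 := by rw [hy_def, map_mul, map_mul, map_inv, X.τ_map, hg, act24.far_conj]
  have hconj : ∀ a < 12, ∃ w : E, w * X.τ * w⁻¹ = X.el y a := by
    intro a ha
    by_cases h1 : a = 1
    · subst h1; exact ⟨g, by rw [el_one, hy_def]⟩
    · rw [X.el_ne y h1]; exact X.lift_conj hτ ha h1
  have hsq : ∀ a < 12, X.el y a * X.el y a = 1 := fun a ha => by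
    obtain ⟨w, hw⟩ := hconj a ha
    rw [← hw]; exact X.conj_sq w
  have hpow : ∀ a < 12, ∀ b < 12, (X.el y a * X.el y b) ^ lab24 a b = 1 := by
    intro a ha b hb
    obtain ⟨u, hu⟩ := hconj a ha
    obtain ⟨v, hv⟩ := hconj b hb
    set A := X.el y a with hA
    set B := X.el y b with hB
    have hAi := inv_eq_of_mul_eq_one_right (hsq a ha)
    have hBi := inv_eq_of_mul_eq_one_right (hsq b hb)
    have hπA := X.el_map hy ha
    have hπB := X.el_map hy hb
    rw [← hA] at hπA hAi
    rw [← hB] at hπB hBi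
    by_cases hab : a = b
    · subst hab
      rw [show lab24 a a = 1 by simp [lab24], pow_one, hA]; exact hsq a ha
    rcases show lab24 a b = 2 ∨ lab24 a b = 3 by
      rw [lab24, show Nat.beq a b = false from Bool.eq_false_iff.mpr fun e => hab (Nat.eq_of_beq_eq_true e)]
      cases adj24.any fun e => (Nat.beq e.1 a && Nat.beq e.2 b) || (Nat.beq e.1 b && Nat.beq e.2 a) <;> simp
      with hl | hl
    · have e : A * B * A⁻¹ = B := by
        rw [← hv, show A * (v * X.τ * v⁻¹) * A⁻¹ = (A * v) * X.τ * (A * v)⁻¹ by group]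
        refine X.conj_eq hτ ?_
        rw [show A * v * X.τ * (A * v)⁻¹ = A * (v * X.τ * v⁻¹) * A⁻¹ by group, hv, map_mul, map_mul, map_inv, hπA,
          hπB, (x24_comm ha hb hl).eq, mul_inv_cancel_right]
      rw [hl, pow_two]
      calc A * B * (A * B) = (A * B * A⁻¹) * (A * A) * B := by group
        _ = 1 := by rw [e, hA, hsq a ha, mul_one, hB, hsq b hb]
    · have e : A * B * A⁻¹ = B * A * B⁻¹ := by
        rw [← hv, ← hu, show (u * X.τ * u⁻¹) * (v * X.τ * v⁻¹) * (u * X.τ * u⁻¹)⁻¹ =
            ((u * X.τ * u⁻¹) * v) * X.τ * ((u * X.τ * u⁻¹) * v)⁻¹ by group,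
          show (v * X.τ * v⁻¹) * (u * X.τ * u⁻¹) * (v * X.τ * v⁻¹)⁻¹ =
            ((v * X.τ * v⁻¹) * u) * X.τ * ((v * X.τ * v⁻¹) * u)⁻¹ by group]
        refine X.conj_eq hτ ?_
        rw [show ((u * X.τ * u⁻¹) * v) * X.τ * ((u * X.τ * u⁻¹) * v)⁻¹ =
            (u * X.τ * u⁻¹) * (v * X.τ * v⁻¹) * (u * X.τ * u⁻¹)⁻¹ by group,
          show ((v * X.τ * v⁻¹) * u) * X.τ * ((v * X.τ * v⁻¹) * u)⁻¹ =
            (v * X.τ * v⁻¹) * (u * X.τ * u⁻¹) * (v * X.τ * v⁻¹)⁻¹ by group, hu, hv]
        simp only [map_mul, map_inv, hπA, hπB, inv_eq_of_mul_eq_one_right (x24_sq ha),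
          inv_eq_of_mul_eq_one_right (x24_sq hb)]
        exact x24_braid ha hb hl
      rw [hAi, hBi] at e
      rw [hl, pow_succ, pow_two]
      calc A * B * (A * B) * (A * B) = (A * B * A) * (B * A * B) := by group
        _ = (B * A * B) * (B * A * B) := by rw [e]
        _ = B * (A * (B * B) * A) * B := by group
        _ = 1 := by rw [hB, hsq b hb, mul_one, hA, hsq a ha, mul_one, hsq b hb]
  have hu : X.π (ev (X.el y) prodWord) = 1 := by
    rw [X.ev_map hy _ (fun a ha => Nat.le_of_ble_eq_true (List.all_eq_true.mp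
      (show prodWord.all (fun b => Nat.blt b 12) = true by decide +kernel) a ha)), prodWord]
    exact x24_relProd
  set u := ev (X.el y) prodWord with hu_def
  have D : Deduction fixTwist (X.el y) u X.S :=
    { ck := checks_fix
      pair := fun a ha b hb => by rw [word24, ev_pair, ← lab24_symm ha hb]; exact hpow b hb a ha
      sq := hsq
      seven := X.lift_seven hy
      spider := X.lift_spider hy
      prod := hu_def.symm
      twist := fun a _ => by
        rw [show fixTwist.eps = 1 from rfl, zpow_one]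
        exact (X.kernel_center hτ hu _).eq.symm
      mem := fun a ha h1 => by rw [X.el_ne y h1]; exact (X.lift_spec ha h1).1 }
  obtain ⟨w, hw⟩ := D.loop (w := relE7) (i := 18896) (d := 1) (fun b hb => Nat.le_of_ble_eq_true
    (List.all_eq_true.mp (show relE7.all (fun b => Nat.blt b 12) = true by decide +kernel) b hb))
    (show 18896 < 306936 by norm_num) (tw_relE7 _ (by norm_num)) (X.lift_seven hy) fix_loop_sum
  rw [zpow_one, mul_assoc, (X.kernel_center hτ hu w).eq, inv_mul_cancel_left] at hw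
  obtain ⟨s, hs⟩ := X.exists_section hy hpow (X.sec_ext hw hu)
  exact X.trivial_of_section s hs hk

end Ext

end

end Cfsg.Agent.FiTwentyFourCover
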