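/-
The relators of Fi24 have exponent zero modulo three, the long one exponent one.
-/
import Cfsg.Agent.Lib.FiTwentyFour.Table
import Cfsg.Agent.Lib.FiTwentyFour.Words
import Cfsg.Agent.Lib.FiTwentyFourCover.DataInv

set_option autoImplicit false
set_option maxRecDepth 100000
set_option Elab.async false

namespace Cfsg.Agent.FiTwentyFourCover

open Cfsg.Agent.FiTwentyFour (fi24c rest word24 relE7 relSpider relProd)

theorem cover_pair0 : (([1, 2, 3, 4, 5, 6, 7, 8, 9, 10, 11] : List ℕ).all fun b => invTwist.mod3Is fi24c (word24 0 b) 0) = true := by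
  decide +kernel

theorem cover_pair1 : (([2, 3, 4, 5, 6, 7, 8, 9, 10, 11] : List ℕ).all fun b => invTwist.mod3Is fi24c (word24 1 b) 0) = true := by
  decide +kernel

theorem cover_pair2 : (([3, 4, 5, 6, 7, 8, 9, 10, 11] : List ℕ).all fun b => invTwist.mod3Is fi24c (word24 2 b) 0) = true := by
  decide +kernel

theorem cover_pair3 : (([4, 5, 6, 7, 8, 9, 10, 11] : List ℕ).all fun b => invTwist.mod3Is fi24c (word24 3 b) 0) = true := by
  decide +kernel

theorem cover_pair4 : (([5, 6, 7, 8, 9, 10, 11] : List ℕ).all fun b => invTwist.mod3Is fi24c (word24 4 b) 0) = true := by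
  decide +kernel

theorem cover_pair5 : (([6, 7, 8, 9, 10, 11] : List ℕ).all fun b => invTwist.mod3Is fi24c (word24 5 b) 0) = true := by
  decide +kernel

theorem cover_pair6 : (([7, 8, 9, 10, 11] : List ℕ).all fun b => invTwist.mod3Is fi24c (word24 6 b) 0) = true := by
  decide +kernel

theorem cover_pair7 : (([8, 9, 10, 11] : List ℕ).all fun b => invTwist.mod3Is fi24c (word24 7 b) 0) = true := by
  decide +kernel

theorem cover_pair8 : (([9, 10, 11] : List ℕ).all fun b => invTwist.mod3Is fi24c (word24 8 b) 0) = true := by
  decide +kernel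

theorem cover_pair9 : (([10, 11] : List ℕ).all fun b => invTwist.mod3Is fi24c (word24 9 b) 0) = true := by
  decide +kernel

theorem cover_pair10 : (([11] : List ℕ).all fun b => invTwist.mod3Is fi24c (word24 10 b) 0) = true := by
  decide +kernel

theorem cover_seven : invTwist.mod3Is fi24c relE7 0 = true := by decide +kernel

theorem cover_prod : invTwist.mod3Is fi24c (List.replicate 17 relProd).flatten 1 = true := by decide +kernel

end Cfsg.Agent.FiTwentyFourCover
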