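/-
The triple cover of the derived group of Fi24, from the exponents modulo three on the table.
Main result: `exists_triple_cover`.
-/
import Cfsg.Agent.Lib.FiTwentyFourCover.Central
import Cfsg.Agent.Lib.FiTwentyFourCover.CheckCover

set_option autoImplicit false
set_option maxRecDepth 10000

namespace Cfsg.Agent.FiTwentyFourCover

open Cfsg.Agent.FiTwentyFour
open scoped commutatorElement

noncomputable section

/-- The points of the cover. -/
abbrev Pts : Type := Fin fi24c.n × ZMod 3

/-- The exponent of an edge modulo three. -/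
def kv3 (a : ℕ) (i : ℕ) : ZMod 3 := (invTwist.kv a i : ZMod 3)

theorem kv3_symm {a : ℕ} (ha : a < 12) {i : ℕ} (hi : i < fi24c.n) : kv3 a (fi24c.act a i) = kv3 a i := by
  by_cases h : fi24c.act a i = i
  · rw [h]
  · rw [kv3, Twist.symOK_spec perms24 ha (checks_inv.sym a ha) hi h, show invTwist.eps = -1 from rfl, neg_neg,
      one_mul]
    rfl

/-- A letter on the points of the cover. -/
def move (a : ℕ) (p : Pts) : Pts := (sig24 a p.1, kv3 a p.1 - p.2)

theorem move_involutive {a : ℕ} (ha : a < 12) : Function.Involutive (move a) := by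
  intro p
  refine Prod.ext ?_ ?_
  · exact Fin.ext (by
      show ((Cert.sigma perms24 a (Cert.sigma perms24 a p.1) : Fin fi24c.n) : ℕ) = p.1
      rw [Cert.sigma_apply perms24 ha, Cert.sigma_apply perms24 ha]
      exact perms24.inv a ha p.1 p.1.2)
  · show kv3 a (Cert.sigma perms24 a p.1 : Fin fi24c.n) - (kv3 a p.1 - p.2) = p.2
    rw [Cert.sigma_apply perms24 ha, kv3_symm ha p.1.2, sub_sub_cancel]

/-- The permutation of a letter. -/
def sigC (a : ℕ) : Equiv.Perm Pts := if h : a < 12 then (move_involutive h).toPerm _ else 1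

theorem sigC_apply {a : ℕ} (ha : a < 12) (p : Pts) : sigC a p = move a p := by
  rw [sigC, dif_pos ha]; rfl

theorem sigC_sq {a : ℕ} (ha : a < 12) : sigC a * sigC a = 1 :=
  Equiv.ext fun p => by rw [Equiv.Perm.mul_apply, sigC_apply ha, sigC_apply ha, move_involutive ha p]; rfl

/-- The shift of the fibres. -/
def shiftC : Equiv.Perm Pts := Equiv.prodCongr (Equiv.refl _) (Equiv.addRight 1)

theorem shiftC_apply (p : Pts) : shiftC p = (p.1, p.2 + 1) := rfl

theorem shiftC_cube : shiftC ^ 3 = 1 := by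
  refine Equiv.ext fun p => ?_
  rw [pow_succ, pow_two, Equiv.Perm.mul_apply, Equiv.Perm.mul_apply, shiftC_apply, shiftC_apply, shiftC_apply,
    Equiv.Perm.one_apply]
  refine Prod.ext rfl ?_
  show p.2 + 1 + 1 + 1 = p.2
  rw [add_assoc, add_assoc, show (1 : ZMod 3) + (1 + 1) = 0 from rfl, add_zero]

theorem shiftC_ne : shiftC ≠ 1 := fun h => by
  have := congrArg (fun f : Equiv.Perm Pts => (f (⟨0, perms24.hn⟩, 0)).2) h
  simp [shiftC_apply] at this

theorem sigC_shift {a : ℕ} (ha : a < 12) : sigC a * shiftC * (sigC a)⁻¹ = shiftC⁻¹ := by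
  rw [eq_inv_iff_mul_eq_one, inv_eq_of_mul_eq_one_right (sigC_sq ha)]
  refine Equiv.ext fun p => ?_
  simp only [Equiv.Perm.mul_apply, Equiv.Perm.one_apply, sigC_apply ha, shiftC_apply]
  have h := move_involutive ha p
  have e : move a ((move a (p.1, p.2 + 1)).1, (move a (p.1, p.2 + 1)).2 + 1) = p := by
    calc move a ((move a (p.1, p.2 + 1)).1, (move a (p.1, p.2 + 1)).2 + 1) = move a (move a p) := by
          refine congrArg (move a) (Prod.ext rfl ?_)
          show kv3 a p.1 - (p.2 + 1) + 1 = kv3 a p.1 - p.2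
          ring
      _ = p := h
  exact e

theorem ev_sigC : ∀ (w : List ℕ), (∀ a ∈ w, a < 12) → ∀ p : Pts,
    ((ev sigC w p).1 : ℕ) = tw fi24c.net w p.1 ∧
      (ev sigC w p).2 = (invTwist.psum fi24c w p.1 : ZMod 3) + (-1) ^ w.length * p.2
  | [], _, p => ⟨rfl, by simp [ev, Twist.psum]⟩
  | b :: v, hw, p => by
    have hb := hw b List.mem_cons_self
    rw [show ev sigC (b :: v) = ev sigC v * sigC b from rfl, Equiv.Perm.mul_apply, sigC_apply hb]
    obtain ⟨h1, h2⟩ := ev_sigC v (fun c hc => hw c (List.mem_cons_of_mem b hc)) (move b p)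
    have e : ((move b p).1 : ℕ) = fi24c.act b p.1 := Cert.sigma_apply perms24 hb p.1
    refine ⟨by rw [h1, e, tw_cons]; rfl, ?_⟩
    rw [h2, e, show invTwist.psum fi24c (b :: v) p.1 =
      invTwist.eps ^ v.length * invTwist.kv b p.1 + invTwist.psum fi24c v (fi24c.act b p.1) from rfl,
      show invTwist.eps = -1 from rfl, show (move b p).2 = (invTwist.kv b p.1 : ZMod 3) - p.2 from rfl,
      List.length_cons, pow_succ]
    push_cast
    ring

theorem word_lt_of_all {w : List ℕ} (h : (w.all fun a => Nat.blt a 12) = true) : ∀ a ∈ w, a < 12 :=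
  fun a ha => Nat.le_of_ble_eq_true (List.all_eq_true.mp h a ha)

/-- A closed word of even length shifts by its exponent. -/
theorem ev_sigC_closed {w : List ℕ} (hw : ∀ a ∈ w, a < 12) (hlen : Even w.length) {r : ℕ} (hr : r ≤ 1)
    (hcl : ∀ i < 327680, tw netTab w i = i) (h : invTwist.mod3Is fi24c w r = true) :
    ev sigC w = shiftC ^ r := by
  refine Equiv.ext fun p => ?_
  obtain ⟨h1, h2⟩ := ev_sigC w hw p
  have hi : (p.1 : ℕ) < 327680 := lt_of_lt_of_le p.1.2 perms24.hnN
  rw [Twist.mod3Is_spec perms24 hw hr h p.1.2, hlen.neg_one_pow, one_mul] at h2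
  have h1' : (ev sigC w p).1 = p.1 := Fin.ext (h1.trans (hcl _ hi))
  interval_cases r
  · rw [pow_zero, Equiv.Perm.one_apply]
    exact Prod.ext h1' (by rw [h2]; simp)
  · rw [pow_one, shiftC_apply]
    exact Prod.ext h1' (by rw [h2]; simp [add_comm])

theorem sigC_pow {a b : ℕ} (ha : a < 12) (hb : b < 12) : (sigC a * sigC b) ^ lab24 a b = 1 := by
  have key : ∀ a b, a < 12 → b < 12 → a < b → (sigC b * sigC a) ^ lab24 a b = 1 := by
    intro a b ha hb hab
    rw [← ev_pair, show (List.replicate (lab24 a b) [a, b]).flatten = word24 a b from rfl, ← pow_zero shiftC]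
    refine ev_sigC_closed (fun c hc => ?_) ?_ (Nat.zero_le _) (tw_pair ha hb hab) ?_
    · rw [← (rest_spec ha hb hab.ne).1] at hc
      rcases List.mem_cons.mp hc with rfl | hc
      exacts [ha, (rest_spec ha hb hab.ne).2 c hc]
    · rw [word24, List.length_flatten, List.map_replicate, List.sum_replicate]
      exact ⟨lab24 a b, by simp; ring⟩
    · have hm : b ∈ (List.range 12).filter (fun c => a < c) := by simp [hb, hab]
      interval_cases a
      · exact List.all_eq_true.mp cover_pair0 b hm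
      · exact List.all_eq_true.mp cover_pair1 b hm
      · exact List.all_eq_true.mp cover_pair2 b hm
      · exact List.all_eq_true.mp cover_pair3 b hm
      · exact List.all_eq_true.mp cover_pair4 b hm
      · exact List.all_eq_true.mp cover_pair5 b hm
      · exact List.all_eq_true.mp cover_pair6 b hm
      · exact List.all_eq_true.mp cover_pair7 b hm
      · exact List.all_eq_true.mp cover_pair8 b hm
      · exact List.all_eq_true.mp cover_pair9 b hm
      · exact List.all_eq_true.mp cover_pair10 b hm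
      · omega
  rcases lt_trichotomy a b with h | rfl | h
  · have e : sigC a * sigC b = (sigC b * sigC a)⁻¹ := by
      rw [mul_inv_rev, inv_eq_of_mul_eq_one_right (sigC_sq ha), inv_eq_of_mul_eq_one_right (sigC_sq hb)]
    rw [e, inv_pow, key a b ha hb h, inv_one]
  · simpa [lab24] using sigC_sq ha
  · rw [← lab24_symm ha hb]
    exact key b a hb ha h

/-- The letters of the cover over Fi24. -/
def gC (a : ℕ) : Equiv.Perm Pts × G24 := (sigC a, x24 a)

/-- The double cover group. -/
def top3 : Subgroup (Equiv.Perm Pts × G24) := Subgroup.closure (gC '' {a | a < 12})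

/-- The letters as elements. -/
def eC3 (a : ℕ) : ↥top3 :=
  if h : a < 12 then ⟨gC a, Subgroup.subset_closure ⟨a, h, rfl⟩⟩ else 1

theorem eC3_val {a : ℕ} (ha : a < 12) : (eC3 a : Equiv.Perm Pts × G24) = gC a := by rw [eC3, dif_pos ha]

theorem ev_eC3 {w : List ℕ} (hw : ∀ a ∈ w, a < 12) :
    ((ev eC3 w : ↥top3) : Equiv.Perm Pts × G24) = (ev sigC w, ev x24 w) := by
  have h : top3.subtype (ev eC3 w) = ev gC w := Cert.map_ev _ _ _ w fun a ha => eC3_val (hw a ha)
  refine h.trans (Prod.ext ?_ ?_)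
  · exact Cert.map_ev (MonoidHom.fst _ _) gC sigC w fun _ _ => rfl
  · exact Cert.map_ev (MonoidHom.snd _ _) gC x24 w fun _ _ => rfl

theorem eC3_pow {a b : ℕ} (ha : a < 12) (hb : b < 12) : (eC3 a * eC3 b) ^ lab24 a b = 1 := by
  refine Subtype.ext ?_
  rw [SubmonoidClass.coe_pow, Subgroup.coe_mul, eC3_val ha, eC3_val hb]
  exact Prod.ext (sigC_pow ha hb) (x24_pow ha hb)

theorem relE7_lt : ∀ a ∈ relE7, a < 12 := word_lt_of_all (by decide +kernel)

theorem prodWord_lt : ∀ a ∈ prodWord, a < 12 := word_lt_of_all (by decide +kernel)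

theorem prodWord_even : Even prodWord.length := by
  rw [show prodWord.length = 238 by decide +kernel]; decide

theorem eC3_seven : ev eC3 relE7 = 1 := by
  refine Subtype.ext ?_
  rw [ev_eC3 relE7_lt, x24_relE7,
    ev_sigC_closed relE7_lt (by rw [show relE7.length = 64 by decide +kernel]; decide) (Nat.zero_le _) tw_relE7
      cover_seven, pow_zero]
  rfl

/-- The shift as an element. -/
def zC : ↥top3 := ev eC3 prodWord

theorem zC_val : (zC : Equiv.Perm Pts × G24) = (shiftC, 1) := by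
  rw [zC, ev_eC3 prodWord_lt, ev_sigC_closed prodWord_lt prodWord_even le_rfl tw_relProd cover_prod, pow_one,
    prodWord, x24_relProd]

theorem zC_eq : zC = ev eC3 prodWord := rfl

attribute [local irreducible] zC eC3

/-- The map onto Fi24. -/
def toG : ↥top3 →* G24 := (MonoidHom.snd _ _).comp top3.subtype

theorem toG_eC3 {a : ℕ} (ha : a < 12) : toG (eC3 a) = x24 a := by
  show (eC3 a : Equiv.Perm Pts × G24).2 = _
  rw [eC3_val ha]; rfl

theorem top3_induction {P : ↥top3 → Prop} (gen : ∀ a < 12, P (eC3 a)) (one : P 1)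
    (mul : ∀ x y, P x → P y → P (x * y)) (inv : ∀ x, P x → P x⁻¹) (x : ↥top3) : P x := by
  obtain ⟨x, hx⟩ := x
  induction hx using Subgroup.closure_induction with
  | mem x hx =>
    obtain ⟨a, ha, rfl⟩ := hx
    have := gen a ha
    rwa [eC3, dif_pos (show a < 12 from ha)] at this
  | one => exact one
  | mul x y hx hy px py => exact mul _ _ px py
  | inv x hx px => exact inv _ px

theorem zC_cube : zC ^ 3 = 1 := by
  refine Subtype.ext ?_
  rw [SubmonoidClass.coe_pow, zC_val]
  exact Prod.ext shiftC_cube (one_pow 3)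

theorem zC_ne : zC ≠ 1 := fun h => shiftC_ne (by
  have := congrArg (fun x : ↥top3 => (x : Equiv.Perm Pts × G24).1) h
  simpa [zC_val] using this)

theorem conj_zC (x : ↥top3) : x * zC * x⁻¹ = zC ^ ((sign24 (toG x) : ℤˣ) : ℤ) := by
  refine top3_induction (P := fun x => x * zC * x⁻¹ = zC ^ ((sign24 (toG x) : ℤˣ) : ℤ)) ?_ ?_ ?_ ?_ x
  · intro a ha
    rw [toG_eC3 ha, sign24_x, Units.val_neg, Units.val_one, zpow_neg, zpow_one]
    refine Subtype.ext ?_
    simp only [Subgroup.coe_mul, Subgroup.coe_inv, zC_val, eC3_val ha]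
    exact Prod.ext (sigC_shift ha) (show x24 a * 1 * (x24 a)⁻¹ = 1⁻¹ by group)
  · simp
  · intro x y hx hy
    calc x * y * zC * (x * y)⁻¹ = x * (y * zC * y⁻¹) * x⁻¹ := by group
      _ = x * zC ^ ((sign24 (toG y) : ℤˣ) : ℤ) * x⁻¹ := by rw [hy]
      _ = (x * zC * x⁻¹) ^ ((sign24 (toG y) : ℤˣ) : ℤ) := conj_zpow.symm
      _ = _ := by rw [hx, ← zpow_mul, map_mul, map_mul, Units.val_mul]
  · intro x hx
    rw [map_inv, map_inv, Int.units_inv_eq_self]
    rcases Int.units_eq_one_or (sign24 (toG x)) with h | h <;>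
      simp only [h, Units.val_neg, Units.val_one, zpow_neg, zpow_one] at hx ⊢
    · calc x⁻¹ * zC * x⁻¹⁻¹ = x⁻¹ * (x * zC * x⁻¹) * x⁻¹⁻¹ := by rw [hx]
        _ = zC := by group
    · calc x⁻¹ * zC * x⁻¹⁻¹ = (x⁻¹ * zC⁻¹ * x⁻¹⁻¹)⁻¹ := by group
        _ = (x⁻¹ * (x * zC * x⁻¹) * x⁻¹⁻¹)⁻¹ := by rw [hx]
        _ = zC⁻¹ := by group

instance zC_normal : (Subgroup.zpowers zC).Normal := by
  refine ⟨fun y hy x => ?_⟩
  obtain ⟨m, rfl⟩ := Subgroup.mem_zpowers_iff.1 hy
  rw [← conj_zpow, conj_zC, ← zpow_mul]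
  exact Subgroup.zpow_mem_zpowers _ _

/-- Elements over the identity are shifts. -/
theorem toG_ker {x : ↥top3} (hx : toG x = 1) : x ∈ Subgroup.zpowers zC := by
  have hev : ∀ w : List ℕ, ev (fun a => QuotientGroup.mk' (Subgroup.zpowers zC) (eC3 a)) w =
      QuotientGroup.mk' (Subgroup.zpowers zC) (ev eC3 w) := fun w =>
    (Cert.map_ev (QuotientGroup.mk' (Subgroup.zpowers zC)) eC3 _ w fun _ _ => rfl).symm
  obtain ⟨s, hs⟩ := exists_hom24 (fun a => QuotientGroup.mk' (Subgroup.zpowers zC) (eC3 a))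
    (fun a ha b hb => by rw [← map_mul, ← map_pow, eC3_pow ha hb, map_one])
    (by rw [hev, eC3_seven, map_one])
    (by rw [hev, ← zC_eq]; exact (QuotientGroup.eq_one_iff zC).2 (Subgroup.mem_zpowers zC))
  have key : ∀ y : ↥top3, QuotientGroup.mk' (Subgroup.zpowers zC) y = s (toG y) :=
    top3_induction (fun a ha => by rw [toG_eC3 ha, hs a ha]) (by simp)
      (fun y y' h h' => by rw [map_mul, map_mul, map_mul, h, h'])
      (fun y h => by rw [map_inv, map_inv, map_inv, h])
  have h := key x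
  rw [hx, map_one] at h
  exact (QuotientGroup.eq_one_iff x).1 h

theorem toG_zC : toG zC = 1 := by
  show (zC : Equiv.Perm Pts × G24).2 = 1
  rw [zC_val]

theorem toG_surj : Function.Surjective toG := by
  rw [← MonoidHom.range_eq_top, eq_top_iff, ← gens24, Subgroup.closure_le]
  rintro _ ⟨a, ha, rfl⟩
  exact ⟨eC3 a, toG_eC3 ha⟩

theorem zC_mem : zC ∈ ⁅commutator ↥top3, commutator ↥top3⁆ := by
  have cox : CoxOn eC3 0 := ⟨fun a b _ ha _ hb => eC3_pow ha hb⟩
  have h1 := cox.pair_mem_commutator (by norm_num) ⊤ fun a b _ _ _ _ => Subgroup.mem_top _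
  have h2 := cox.pair_mem_commutator (by norm_num) (commutator ↥top3) fun a b p q r s => by
    rw [commutator_def]; exact h1 a b p q r s
  rw [zC_eq]
  exact even_word_mem _ h2 prodWord (fun a ha => ⟨Nat.zero_le a, prodWord_lt a ha⟩) prodWord_even

/-- A stem extension with kernel of order three. -/
theorem exists_triple_cover : ∃ (Γ : Type) (_ : Group Γ) (_ : Finite Γ) (σ : Γ →* ↥(commutator G24)),
    Cfsg.IsStemExtension σ ∧ Nonempty (σ.ker ≃* Multiplicative (ZMod 3)) := by
  have := finite_G24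
  have hmap : (commutator ↥top3).map toG = commutator G24 := by
    rw [commutator_def, Subgroup.map_commutator, Subgroup.map_top_of_surjective _ toG_surj, commutator_def]
  have hle : ∀ x : ↥(commutator ↥top3), toG x.1 ∈ commutator G24 := fun x =>
    hmap.le ⟨x.1, x.2, rfl⟩
  let σ : ↥(commutator ↥top3) →* ↥(commutator G24) :=
    (toG.comp (commutator ↥top3).subtype).codRestrict (commutator G24) hle
  have hσ : ∀ x, (σ x : G24) = toG x.1 := fun _ => rfl
  have hz1 : zC ∈ commutator ↥top3 := Subgroup.commutator_le_right _ _ zC_mem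
  have hker : σ.ker = Subgroup.zpowers (⟨zC, hz1⟩ : ↥(commutator ↥top3)) := by
    refine le_antisymm (fun x hx => ?_) ?_
    · obtain ⟨m, hm⟩ := Subgroup.mem_zpowers_iff.1 (toG_ker (x := x.1) (congrArg Subtype.val (MonoidHom.mem_ker.1 hx)))
      exact Subgroup.mem_zpowers_iff.2 ⟨m, Subtype.ext hm⟩
    · rw [Subgroup.zpowers_le, MonoidHom.mem_ker]
      exact Subtype.ext toG_zC
  refine ⟨↥(commutator ↥top3), inferInstance, inferInstance, σ, ⟨?_, ?_, ?_⟩, ?_⟩
  · rintro ⟨g, hg⟩
    have h : g ∈ (commutator ↥top3).map toG := hmap.ge hg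
    obtain ⟨x, hx, e⟩ := h
    exact ⟨⟨x, hx⟩, Subtype.ext e⟩
  · rw [hker, Subgroup.zpowers_le, Subgroup.mem_center_iff]
    intro x
    refine Subtype.ext ?_
    have hs : sign24 (toG x.1) = 1 := MonoidHom.mem_ker.1 (commutator_eq_ker.le (hle x))
    have h := conj_zC x.1
    rw [hs, Units.val_one, zpow_one] at h
    exact mul_inv_eq_iff_eq_mul.mp h
  · rw [hker, Subgroup.zpowers_le]
    obtain ⟨q, hq, e⟩ := (Subgroup.map_subtype_commutator (commutator ↥top3)).ge zC_mem
    rwa [show (⟨zC, hz1⟩ : ↥(commutator ↥top3)) = q from (Subtype.ext e).symm]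
  · have : Fact (Nat.Prime 3) := ⟨Nat.prime_three⟩
    have hord : orderOf (⟨zC, hz1⟩ : ↥(commutator ↥top3)) = 3 :=
      orderOf_eq_prime (Subtype.ext zC_cube) fun h => zC_ne (congrArg Subtype.val h)
    refine ⟨mulEquivOfPrimeCardEq (p := 3) ?_ ?_⟩
    · rw [hker, Nat.card_zpowers, hord]
    · rw [Nat.card_congr Multiplicative.toAdd, Nat.card_zmod]

end

end Cfsg.Agent.FiTwentyFourCover
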