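/-
The kernel of an extension of Fi24 as in `Ext` is inverted by the odd elements and has at most three elements.
Main results: `Ext.kernel_inverted`, `Ext.sq_one`, `Ext.exists_generator`.
-/
import Cfsg.Agent.Lib.FiTwentyFourCover.Central

set_option autoImplicit false
set_option maxRecDepth 10000

namespace Cfsg.Agent.FiTwentyFourCover

open Cfsg.Agent.FiTwentyFour
open Cfsg.Agent.FischerExist (farG)
open scoped commutatorElement

noncomputable section

/-- Pushing an extension along a normal subgroup of the kernel. -/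
theorem map_evenPart {E : Type} [Group E] (π : E →* G24) (N : Subgroup E) [N.Normal] (hN : N ≤ π.ker) :
    (evenPart π).map (QuotientGroup.mk' N) = evenPart (QuotientGroup.lift N π hN) := by
  ext x
  obtain ⟨e, rfl⟩ := QuotientGroup.mk'_surjective N x
  constructor
  · rintro ⟨d, hd, he⟩
    rw [mem_evenPart, ← he]
    exact mem_evenPart.1 hd
  · exact fun h => ⟨e, mem_evenPart.2 (mem_evenPart.1 h), rfl⟩

namespace Ext

variable {E : Type} [Group E] (X : Ext E)

/-- The quotient extension. -/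
def quot (N : Subgroup E) [N.Normal] (hN : N ≤ X.π.ker) : Ext (E ⧸ N) where
  π := QuotientGroup.lift N X.π hN
  τ := QuotientGroup.mk' N X.τ
  surj := fun g => by
    obtain ⟨e, rfl⟩ := X.surj g
    exact ⟨QuotientGroup.mk' N e, rfl⟩
  central := by
    intro k hk d hd
    obtain ⟨k, rfl⟩ := QuotientGroup.mk'_surjective N k
    rw [← map_evenPart X.π N hN] at hd
    obtain ⟨d, hd, rfl⟩ := hd
    exact (X.central k hk d hd).map (QuotientGroup.mk' N)
  perfect := by
    rw [← map_evenPart X.π N hN, ← Subgroup.map_commutator]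
    exact Subgroup.map_mono X.perfect
  τ_sq := by rw [← map_mul, X.τ_sq, map_one]
  τ_map := X.τ_map

theorem τ_inv : X.τ⁻¹ = X.τ := inv_eq_of_mul_eq_one_right X.τ_sq

theorem odd_even {e : E} (h : sign24 (X.π e) = -1) : X.τ * e ∈ evenPart X.π := by
  rw [mem_evenPart, map_mul, map_mul, h, X.τ_map, sign24_x]; decide

theorem tau_kernel {k : E} (hk : X.π k = 1) : X.π (X.τ * k * X.τ) = 1 := by
  rw [map_mul, map_mul, hk, X.τ_map, mul_one, x24_sq (by norm_num)]

/-- Conjugation by any element on the kernel. -/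
theorem conj_kernel {k : E} (hk : X.π k = 1) (e : E) :
    e * k * e⁻¹ = k ∨ e * k * e⁻¹ = X.τ * k * X.τ := by
  rcases Int.units_eq_one_or (sign24 (X.π e)) with h | h
  · exact Or.inl (by rw [← (X.central k hk e (mem_evenPart.2 h)).eq, mul_inv_cancel_right])
  · right
    have hc := (X.central k hk _ (X.odd_even h)).eq
    calc e * k * e⁻¹ = X.τ * (X.τ * e * k * (X.τ * e)⁻¹) * X.τ := by
          rw [mul_inv_rev, X.τ_inv]
          calc e * k * e⁻¹ = (X.τ * X.τ) * e * k * e⁻¹ * (X.τ * X.τ) := by rw [X.τ_sq, one_mul, mul_one]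
            _ = _ := by group
      _ = _ := by rw [← hc, mul_inv_cancel_right]

/-- The displacements of the kernel. -/
def moved : Subgroup E where
  carrier := {b | ∃ k, X.π k = 1 ∧ b = X.τ * k * X.τ * k⁻¹}
  one_mem' := ⟨1, map_one _, by rw [mul_one, X.τ_sq, inv_one, one_mul]⟩
  mul_mem' := by
    rintro _ _ ⟨k, hk, rfl⟩ ⟨l, hl, rfl⟩
    refine ⟨k * l, by rw [map_mul, hk, hl, one_mul], ?_⟩
    have h1 : Commute k⁻¹ (X.τ * l * X.τ) := (X.kernel_comm hk (X.tau_kernel hl)).inv_left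
    have h2 : Commute k⁻¹ l⁻¹ := (X.kernel_comm hk hl).inv_left.inv_right
    calc X.τ * k * X.τ * k⁻¹ * (X.τ * l * X.τ * l⁻¹) = X.τ * k * X.τ * (k⁻¹ * (X.τ * l * X.τ)) * l⁻¹ := by group
      _ = X.τ * k * X.τ * (X.τ * l * X.τ * k⁻¹) * l⁻¹ := by rw [h1.eq]
      _ = X.τ * k * (X.τ * X.τ) * l * X.τ * (k⁻¹ * l⁻¹) := by group
      _ = _ := by rw [X.τ_sq, mul_one, h2.eq, mul_inv_rev]; group
  inv_mem' := by
    rintro _ ⟨k, hk, rfl⟩
    refine ⟨k⁻¹, by rw [map_inv, hk, inv_one], ?_⟩
    have h1 := X.kernel_comm hk (k' := X.τ * k⁻¹ * X.τ) (X.tau_kernel (by rw [map_inv, hk, inv_one]))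
    calc (X.τ * k * X.τ * k⁻¹)⁻¹ = k * (X.τ⁻¹ * k⁻¹ * X.τ⁻¹) := by group
      _ = k * (X.τ * k⁻¹ * X.τ) := by rw [X.τ_inv]
      _ = _ := by rw [h1.eq, inv_inv]

theorem moved_le : X.moved ≤ X.π.ker := by
  rintro _ ⟨k, hk, rfl⟩
  rw [MonoidHom.mem_ker, map_mul, X.tau_kernel hk, map_inv, hk, inv_one, one_mul]

instance moved_normal : X.moved.Normal := by
  refine ⟨fun b hb e => ?_⟩
  rcases X.conj_kernel (MonoidHom.mem_ker.1 (X.moved_le hb)) e with h | h <;> rw [h]
  · exact hb
  · obtain ⟨k, hk, rfl⟩ := hb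
    refine ⟨k⁻¹, by rw [map_inv, hk, inv_one], ?_⟩
    have h1 := X.kernel_comm hk (k' := X.τ * k⁻¹ * X.τ) (X.tau_kernel (by rw [map_inv, hk, inv_one]))
    rw [inv_inv]
    calc X.τ * (X.τ * k * X.τ * k⁻¹) * X.τ = (X.τ * X.τ) * (k * (X.τ * k⁻¹ * X.τ)) := by group
      _ = _ := by rw [X.τ_sq, one_mul, h1.eq]

variable [Finite E]

/-- The chosen involution inverts the kernel, and the kernel consists of squares. -/
theorem kernel_inverted {k : E} (hk : X.π k = 1) :
    X.τ * k * X.τ = k⁻¹ ∧ ∃ l, X.π l = 1 ∧ l * l = k := by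
  have hq : ∀ x : E, X.π x = 1 → x ∈ X.moved := by
    intro x hx
    rw [← QuotientGroup.eq_one_iff]
    refine (X.quot X.moved X.moved_le).central_trivial ?_ (k := QuotientGroup.mk' X.moved x) hx
    intro y hy
    obtain ⟨y, rfl⟩ := QuotientGroup.mk'_surjective X.moved y
    have hb : X.τ * y * X.τ * y⁻¹ ∈ X.moved := ⟨y, hy, rfl⟩
    rw [← QuotientGroup.eq_one_iff, QuotientGroup.mk_mul, QuotientGroup.mk_inv, mul_inv_eq_one, QuotientGroup.mk_mul,
      QuotientGroup.mk_mul] at hb
    show QuotientGroup.mk' X.moved X.τ * QuotientGroup.mk' X.moved y =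
      QuotientGroup.mk' X.moved y * QuotientGroup.mk' X.moved X.τ
    have hsq : QuotientGroup.mk' X.moved X.τ * QuotientGroup.mk' X.moved X.τ = 1 := by
      rw [← map_mul, X.τ_sq, map_one]
    have hb' : QuotientGroup.mk' X.moved X.τ * QuotientGroup.mk' X.moved y * QuotientGroup.mk' X.moved X.τ =
        QuotientGroup.mk' X.moved y := hb
    conv_rhs => rw [← hb']
    rw [mul_assoc _ (QuotientGroup.mk' X.moved X.τ) (QuotientGroup.mk' X.moved X.τ), hsq, mul_one]
  have inv : ∀ x : E, X.π x = 1 → X.τ * x * X.τ = x⁻¹ := by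
    intro x hx
    obtain ⟨l, hl, rfl⟩ := hq x hx
    calc X.τ * (X.τ * l * X.τ * l⁻¹) * X.τ = (X.τ * X.τ) * (l * (X.τ * l⁻¹ * X.τ)) := by group
      _ = l * (X.τ⁻¹ * l⁻¹ * X.τ⁻¹) := by rw [X.τ_sq, one_mul, X.τ_inv]
      _ = _ := by group
  refine ⟨inv k hk, ?_⟩
  obtain ⟨l, hl, rfl⟩ := hq k hk
  exact ⟨l⁻¹, by rw [map_inv, hl, inv_one], by rw [inv l hl]⟩

/-- No element of order two in the kernel. -/
theorem sq_one {k : E} (hk : X.π k = 1) (h2 : k * k = 1) : k = 1 := by
  let f : ↥X.π.ker → ↥X.π.ker := fun x => x * x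
  have hs : Function.Surjective f := by
    intro x
    obtain ⟨l, hl, e⟩ := (X.kernel_inverted (MonoidHom.mem_ker.1 x.2)).2
    exact ⟨⟨l, MonoidHom.mem_ker.2 hl⟩, Subtype.ext e⟩
  have hi := Finite.injective_iff_surjective.mpr hs
  exact congrArg Subtype.val (@hi ⟨k, MonoidHom.mem_ker.2 hk⟩ 1 (Subtype.ext (by simpa [f] using h2)))

theorem odd_conj {k e : E} (hk : X.π k = 1) (he : sign24 (X.π e) = -1) : e * k = k⁻¹ * e := by
  have hc := (X.central k hk _ (X.odd_even he)).eq
  have hi := (X.kernel_inverted hk).1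
  calc e * k = X.τ * (X.τ * e * k) := by rw [← mul_assoc, ← mul_assoc, X.τ_sq, one_mul]
    _ = X.τ * (k * (X.τ * e)) := by rw [hc]
    _ = X.τ * k * X.τ * e := by group
    _ = k⁻¹ * e := by rw [hi]

/-- The kernel is generated by one element of order dividing three. -/
theorem exists_generator : ∃ u, X.π u = 1 ∧ u ^ 3 = 1 ∧ ∀ k, X.π k = 1 → k ∈ Subgroup.zpowers u := by
  obtain ⟨g, hg⟩ := X.surj (farG x24)
  set y0 := g * X.τ * g⁻¹ with hy0_def
  have hy0 : X.π y0 = x24 1 := by rw [hy0_def, map_mul, map_mul, map_inv, X.τ_map, hg, act24.far_conj]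
  have hy0sq : y0 * y0 = 1 := by
    calc g * X.τ * g⁻¹ * (g * X.τ * g⁻¹) = g * (X.τ * X.τ) * g⁻¹ := by group
      _ = 1 := by rw [X.τ_sq, mul_one, mul_inv_cancel]
  have hπ : ∀ a, 2 ≤ a → a < 12 → X.π (X.lift a) = x24 a := fun a h1 h2 => (X.lift_spec h2 (by omega)).2
  have hsgn : ∀ a, 2 ≤ a → a < 12 → sign24 (X.π (X.lift a)) = -1 := fun a h1 h2 => by rw [hπ a h1 h2, sign24_x]
  have hy0odd : sign24 (X.π y0) = -1 := by rw [hy0, sign24_x]
  have hc1 : ∀ a, 3 ≤ a → a < 12 → x24 1 * x24 a = x24 a * x24 1 := fun a h3 h12 =>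
    (x24_comm (by norm_num) h12 (by interval_cases a <;> decide)).eq
  -- the products of two letters centralising the second generator
  have cox : CoxOn X.lift 3 := X.coxOn.mono (by norm_num)
  have hD : ∀ a b, 3 ≤ a → a < 12 → 3 ≤ b → b < 12 →
      X.lift a * X.lift b ∈ Subgroup.centralizer ({y0} : Set E) := by
    refine cox.pairs le_rfl _ fun a b h1 h2 h3 h4 hl => ?_
    obtain ⟨e, he, he', hae, hbe⟩ := exists_third le_rfl h1 h2 h3 h4 hl
    rw [← mul_eq_commutator (cox.sq h1 h2) (cox.sq h3 h4) (cox.sq he he') (cox.comm h1 h2 he he' hae)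
      (cox.comm h3 h4 he he' hbe) (hl ▸ cox.pow a b h1 h2 h3 h4), Subgroup.mem_centralizer_singleton_iff]
    have hev : ∀ p q, 3 ≤ p → p < 12 → 3 ≤ q → q < 12 → X.lift p * X.lift q ∈ evenPart X.π := by
      intro p q hp hp' hq hq'
      rw [mem_evenPart, map_mul, map_mul, hsgn p (by omega) hp', hsgn q (by omega) hq']; rfl
    have hsame : ∀ p q, 3 ≤ p → p < 12 → 3 ≤ q → q < 12 →
        X.π (y0 * (X.lift p * X.lift q) * y0⁻¹) = X.π (X.lift p * X.lift q) := by
      intro p q hp hp' hq hq'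
      simp only [map_mul, map_inv, hy0, hπ p (by omega) hp', hπ q (by omega) hq']
      rw [← mul_assoc (x24 1), hc1 p hp hp', mul_assoc (x24 p), hc1 q hq hq', ← mul_assoc, mul_inv_cancel_right]
    have h := X.commutator_congr (hev a e h1 h2 he he') (hev a b h1 h2 h3 h4) (hsame a e h1 h2 he he')
      (hsame a b h1 h2 h3 h4)
    have h' : y0 * ⁅X.lift a * X.lift e, X.lift a * X.lift b⁆ * y0⁻¹ = ⁅X.lift a * X.lift e, X.lift a * X.lift b⁆ := by
      have hc : y0 * ⁅X.lift a * X.lift e, X.lift a * X.lift b⁆ * y0⁻¹ =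
          ⁅y0 * (X.lift a * X.lift e) * y0⁻¹, y0 * (X.lift a * X.lift b) * y0⁻¹⁆ := by
        simp only [commutatorElement_def]; group
      rw [hc, h]
    exact (mul_inv_eq_iff_eq_mul.mp h').symm
  -- one discrepancy, removed by a square root
  set c := y0 * X.lift 3 * (y0 * X.lift 3) with hc_def
  have hck : X.π c = 1 := by
    simp only [hc_def, map_mul, hy0, hπ 3 (by norm_num) (by norm_num)]
    rw [mul_assoc, ← mul_assoc (x24 3), ← hc1 3 le_rfl (by norm_num), mul_assoc (x24 1) (x24 3),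
      x24_sq (show 3 < 12 by norm_num), mul_one, x24_sq (by norm_num)]
  have hall : ∀ a, 3 ≤ a → a < 12 → y0 * X.lift a * (y0 * X.lift a) = c := by
    intro a h3 h12
    have h := (Subgroup.mem_centralizer_singleton_iff.mp (hD 3 a le_rfl (by norm_num) h3 h12))
    have h33 := cox.sq (a := 3) le_rfl (by norm_num)
    have haa := cox.sq h3 h12
    have e1 : y0 * X.lift 3 * y0 = c * X.lift 3 := by
      calc y0 * X.lift 3 * y0 = y0 * X.lift 3 * y0 * (X.lift 3 * X.lift 3) := by rw [h33, mul_one]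
        _ = _ := by rw [hc_def]; group
    have e2 : y0 * (X.lift 3 * X.lift a) * y0 = X.lift 3 * X.lift a := by
      rw [← h, mul_assoc, hy0sq, mul_one]
    have e3 : y0 * (X.lift 3 * X.lift a) * y0 = c * X.lift 3 * (y0 * X.lift a * y0) := by
      rw [← e1]
      calc y0 * (X.lift 3 * X.lift a) * y0 = y0 * X.lift 3 * (y0 * y0) * X.lift a * y0 := by rw [hy0sq]; group
        _ = _ := by group
    have e4 : y0 * X.lift a * y0 = X.lift 3 * c⁻¹ * (X.lift 3 * X.lift a) := by
      rw [e2] at e3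
      calc y0 * X.lift a * y0 = (c * X.lift 3)⁻¹ * (c * X.lift 3 * (y0 * X.lift a * y0)) := by group
        _ = (c * X.lift 3)⁻¹ * (X.lift 3 * X.lift a) := by rw [← e3]
        _ = _ := by rw [mul_inv_rev, inv_eq_of_mul_eq_one_right h33]
    have e5 : X.lift 3 * c⁻¹ = c * X.lift 3 := by
      rw [X.odd_conj (by rw [map_inv, hck, inv_one]) (hsgn 3 (by norm_num) (by norm_num)), inv_inv]
    calc y0 * X.lift a * (y0 * X.lift a) = (y0 * X.lift a * y0) * X.lift a := by group
      _ = c * (X.lift 3 * X.lift 3) * (X.lift a * X.lift a) := by rw [e4, e5]; group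
      _ = c := by rw [h33, haa, mul_one, mul_one]
  obtain ⟨b, hb, hbb⟩ := (X.kernel_inverted hck).2
  set y := y0 * b with hy_def
  have hy : X.π y = x24 1 := by rw [hy_def, map_mul, hy0, hb, mul_one]
  have hysq : y * y = 1 := by
    calc y0 * b * (y0 * b) = y0 * (b * y0) * b := by group
      _ = y0 * (y0 * b⁻¹) * b := by
        rw [show b * y0 = y0 * b⁻¹ by rw [X.odd_conj (by rw [map_inv, hb, inv_one]) hy0odd, inv_inv]]
      _ = 1 := by rw [← mul_assoc, hy0sq, one_mul, inv_mul_cancel]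
  have hcomm : ∀ a, 3 ≤ a → a < 12 → y * X.lift a * (y * X.lift a) = 1 := by
    intro a h3 h12
    have hev : y0 * X.lift a ∈ evenPart X.π := by
      rw [mem_evenPart, map_mul, map_mul, hy0odd, hsgn a (by omega) h12]; rfl
    have hbc := (X.central b⁻¹ (by rw [map_inv, hb, inv_one]) _ hev).eq
    have ey : y * X.lift a = y0 * X.lift a * b⁻¹ := by
      calc y * X.lift a = y0 * (b * X.lift a) := by rw [hy_def]; exact mul_assoc y0 b (X.lift a)
        _ = y0 * (X.lift a * b⁻¹) := by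
          rw [X.odd_conj (by rw [map_inv, hb, inv_one]) (hsgn a (by omega) h12), inv_inv]
        _ = _ := (mul_assoc _ _ _).symm
    rw [ey]
    calc y0 * X.lift a * b⁻¹ * (y0 * X.lift a * b⁻¹) = y0 * X.lift a * (b⁻¹ * (y0 * X.lift a)) * b⁻¹ := by group
      _ = y0 * X.lift a * (y0 * X.lift a * b⁻¹) * b⁻¹ := by rw [hbc]
      _ = (y0 * X.lift a * (y0 * X.lift a)) * (b * b)⁻¹ := by group
      _ = 1 := by rw [hall a h3 h12, hbb, mul_inv_cancel]
  have hyx : ∀ a, 3 ≤ a → a < 12 → Commute y (X.lift a) := by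
    intro a h3 h12
    have e := eq_inv_of_mul_eq_one_left (hcomm a h3 h12)
    rw [mul_inv_rev, inv_eq_of_mul_eq_one_right hysq, inv_eq_of_mul_eq_one_right (cox.sq h3 h12)] at e
    exact e
  -- the two braids
  have braid : ∀ x : E, x * x = 1 → Commute x (X.lift 4) → X.π ((x * y) ^ 3) = 1 → (x * y) ^ 3 = 1 := by
    intro x _ hx hk
    refine X.sq_one hk ?_
    have h1 : Commute (X.lift 4) ((x * y) ^ 3) :=
      ((hx.symm.mul_right (hyx 4 (by norm_num) (by norm_num)).symm).pow_right 3)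
    have h2 := X.odd_conj hk (hsgn 4 (by norm_num) (by norm_num))
    rw [h1.eq, mul_left_inj] at h2
    nth_rewrite 1 [h2]
    exact inv_mul_cancel _
  have h01 : (X.τ * y) ^ 3 = 1 := by
    refine braid X.τ X.τ_sq ?_ ?_
    · exact X.S_comm (X.lift_spec (by norm_num) (by norm_num)).1
    · rw [map_pow, map_mul, X.τ_map, hy]
      exact x24_pow (a := 0) (b := 1) (by norm_num) (by norm_num)
  have h21 : (X.lift 2 * y) ^ 3 = 1 := by
    refine braid _ (X.lift_sq (by norm_num) (by norm_num)) (X.coxOn.comm le_rfl (by norm_num) (by norm_num)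
      (by norm_num) (by decide)) ?_
    rw [map_pow, map_mul, hπ 2 le_rfl (by norm_num), hy]
    exact x24_pow (a := 2) (b := 1) (by norm_num) (by norm_num)
  have swap : ∀ {p q : E} (m : ℕ), p * p = 1 → q * q = 1 → (p * q) ^ m = 1 → (q * p) ^ m = 1 := by
    intro p q m hp hq h
    have e : (p * q)⁻¹ = q * p := by
      rw [mul_inv_rev, inv_eq_of_mul_eq_one_right hp, inv_eq_of_mul_eq_one_right hq]
    rw [← e, inv_pow, h, inv_one]
  have hsq : ∀ a < 12, X.el y a * X.el y a = 1 := fun a ha => by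
    by_cases h : a = 1
    · subst h; rw [el_one]; exact hysq
    · rw [X.el_ne y h]; exact X.lift_sq ha h
  have hlo : ∀ b, b < 12 → b ≠ 1 → (y * X.el y b) ^ lab24 1 b = 1 := by
    intro b hb hb1
    rw [X.el_ne y hb1]
    rcases Nat.lt_or_ge b 3 with h | h
    · interval_cases b
      · rw [show lab24 1 0 = 3 by decide, X.lift_zero]
        exact swap 3 X.τ_sq hysq h01
      · exact absurd rfl hb1
      · rw [show lab24 1 2 = 3 by decide]
        exact swap 3 (X.lift_sq (by norm_num) (by norm_num)) hysq h21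
    · rw [show lab24 1 b = 2 by interval_cases b <;> decide, pow_two]
      exact hcomm b h hb
  have hpow : ∀ a < 12, ∀ b < 12, (X.el y a * X.el y b) ^ lab24 a b = 1 := by
    intro a ha b hb
    by_cases hab : a = b
    · subst hab; rw [show lab24 a a = 1 by simp [lab24], pow_one]; exact hsq a ha
    by_cases ha1 : a = 1
    · subst ha1; rw [el_one]; exact hlo b hb (Ne.symm hab)
    by_cases hb1 : b = 1
    · subst hb1
      rw [el_one, lab24_symm hb ha]
      exact swap _ hysq (hsq a ha) (hlo a ha ha1)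
    · rw [X.el_ne y ha1, X.el_ne y hb1]; exact X.lift_pow ha ha1 hb hb1
  have hu : X.π (ev (X.el y) prodWord) = 1 := by
    rw [X.ev_map hy _ (fun a ha => Nat.le_of_ble_eq_true (List.all_eq_true.mp
      (show prodWord.all (fun b => Nat.blt b 12) = true by decide +kernel) a ha)), prodWord]
    exact x24_relProd
  set u := ev (X.el y) prodWord with hu_def
  have D : Deduction invTwist (X.el y) u X.S :=
    { ck := checks_inv
      pair := fun a ha b hb => by rw [word24, ev_pair, ← lab24_symm ha hb]; exact hpow b hb a ha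
      sq := hsq
      seven := X.lift_seven hy
      spider := X.lift_spider hy
      prod := hu_def.symm
      twist := fun a ha => by
        rw [show invTwist.eps = -1 from rfl, zpow_neg, zpow_one]
        exact X.odd_conj hu (by rw [X.el_map hy ha, sign24_x])
      mem := fun a ha h1 => by rw [X.el_ne y h1]; exact (X.lift_spec ha h1).1 }
  obtain ⟨w, hw⟩ := D.loop (w := word24 0 1) (i := 172160) (d := 3) (by decide +kernel)
    (show 172160 < 306936 by norm_num) (tw_pair (by norm_num) (by norm_num) (by norm_num) _ (by norm_num))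
    (D.pair 0 (by norm_num) 1 (by norm_num)) inv_loop_sum
  have hu3 : X.π (u ^ (3 : ℤ)) = 1 := by rw [map_zpow, hu, one_zpow]
  have h3 : w⁻¹ * u ^ (3 : ℤ) * w = 1 := X.sec_ext hw (by rw [map_mul, map_mul, map_inv, hu3, mul_one, inv_mul_cancel])
  have hu3' : u ^ 3 = 1 := by
    calc u ^ 3 = w * (w⁻¹ * u ^ (3 : ℤ) * w) * w⁻¹ := by rw [← zpow_natCast]; group
      _ = 1 := by rw [h3, mul_one, mul_inv_cancel]
  refine ⟨u, hu, hu3', fun k hk => ?_⟩
  have hle : Subgroup.zpowers u ≤ X.π.ker := Subgroup.zpowers_le.2 (MonoidHom.mem_ker.2 hu)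
  have : (Subgroup.zpowers u).Normal := ⟨fun x hx e => by
    rcases X.conj_kernel (MonoidHom.mem_ker.1 (hle hx)) e with h | h <;> rw [h]
    · exact hx
    · rw [(X.kernel_inverted (MonoidHom.mem_ker.1 (hle hx))).1]; exact inv_mem hx⟩
  set q := QuotientGroup.mk' (Subgroup.zpowers u) with hq_def
  have hev : ∀ v : List ℕ, ev (fun a => q (X.el y a)) v = q (ev (X.el y) v) := fun v =>
    (Cert.map_ev q (X.el y) (fun a => q (X.el y a)) v fun _ _ => rfl).symm
  obtain ⟨s, hs⟩ := exists_hom24 (fun a => q (X.el y a))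
    (fun a ha b hb => by rw [← map_mul, ← map_pow, hpow a ha b hb, map_one])
    (by rw [hev, X.lift_seven hy, map_one])
    (by rw [hev]; exact (QuotientGroup.eq_one_iff u).2 (Subgroup.mem_zpowers u))
  have hsec : ∀ g, (X.quot _ hle).π (s g) = g := fun g =>
    DFunLike.congr_fun (PresentedGroup.ext (φ := (X.quot _ hle).π.comp s) (ψ := MonoidHom.id G24) fun x => by
      rw [MonoidHom.comp_apply, show PresentedGroup.of x = x24 (idx24 x) by rw [x24, gen24_idx24],
        hs _ (idx24_lt x), MonoidHom.id_apply]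
      exact X.el_map hy (idx24_lt x)) g
  exact (QuotientGroup.eq_one_iff k).1 ((X.quot _ hle).trivial_of_section s hsec (k := q k) hk)

end Ext

end

end Cfsg.Agent.FiTwentyFourCover
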