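/-
From a stem extension of the derived group of Fi24 to an extension of Fi24 itself.
Main results: `C24_perfect`, `stem_bound`.
-/
import Cfsg.Agent.Lib.FiTwentyFourCover.Inverted

set_option autoImplicit false
set_option maxRecDepth 10000

namespace Cfsg.Agent.FiTwentyFourCover

open Cfsg.Agent.FiTwentyFour
open scoped commutatorElement

noncomputable section

theorem sign_one_iff {g : G24} : g ∈ commutator G24 ↔ sign24 g = 1 := by
  rw [commutator_eq_ker]; exact MonoidHom.mem_ker

/-- The derived group of Fi24 is perfect. -/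
theorem C24_perfect : commutator ↥(commutator G24) = ⊤ := by
  have cox : CoxOn x24 0 := ⟨fun a b _ ha _ hb => x24_pow ha hb⟩
  have hpair := cox.pair_mem_commutator (by norm_num) (commutator G24)
    fun a b _ _ _ _ => sign_one_iff.2 (MonoidHom.mem_ker.1 pair_mem)
  set D : Subgroup G24 := ⁅commutator G24, commutator G24⁆ with hD_def
  have hDn : D.Normal := by rw [hD_def]; infer_instance
  have h0 : x24 0 * x24 0 = 1 := x24_sq (by norm_num)
  have main : ∀ g : G24, g ∈ D ∨ x24 0 * g ∈ D := by
    intro g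
    have hg : g ∈ Subgroup.closure (x24 '' {a | a < 12}) := by rw [gens24]; trivial
    induction hg using Subgroup.closure_induction with
    | mem x hx =>
      obtain ⟨a, ha, rfl⟩ := hx
      exact Or.inr (hpair 0 a le_rfl (by norm_num) (Nat.zero_le _) ha)
    | one => exact Or.inl (one_mem _)
    | mul x y _ _ hx hy =>
      have hc : ∀ z ∈ D, x24 0 * z * x24 0 ∈ D := fun z hz => by
        have := hDn.conj_mem z hz (x24 0)
        rwa [inv_eq_of_mul_eq_one_right h0] at this
      rcases hx with hx | hx <;> rcases hy with hy | hy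
      · exact Or.inl (mul_mem hx hy)
      · refine Or.inr ?_
        have := mul_mem (hc x hx) hy
        rwa [show x24 0 * x * x24 0 * (x24 0 * y) = x24 0 * x * (x24 0 * x24 0) * y by group, h0, mul_one,
          mul_assoc] at this
      · exact Or.inr (by rw [← mul_assoc]; exact mul_mem hx hy)
      · refine Or.inl ?_
        have := mul_mem (hc _ hx) hy
        rwa [show x24 0 * (x24 0 * x) * x24 0 * (x24 0 * y) = (x24 0 * x24 0) * x * (x24 0 * x24 0) * y by group,
          h0, one_mul, mul_one] at this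
    | inv x _ hx =>
      rcases hx with hx | hx
      · exact Or.inl (inv_mem hx)
      · refine Or.inr ?_
        have := hDn.conj_mem _ (inv_mem hx) (x24 0)
        rwa [mul_inv_rev, inv_eq_of_mul_eq_one_right h0, mul_assoc, mul_assoc, h0, mul_one] at this
  rw [eq_top_iff]
  rintro ⟨g, hg⟩ -
  have hgD : g ∈ D := by
    rcases main g with h | h
    · exact h
    · have hs := sign_one_iff.1 ((Subgroup.commutator_le_right (commutator G24) (commutator G24)) h)
      rw [map_mul, sign24_x, sign_one_iff.1 hg] at hs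
      exact absurd hs (by decide)
  rw [hD_def] at hgD
  have hmap : (commutator ↥(commutator G24)).map (commutator G24).subtype = ⁅commutator G24, commutator G24⁆ :=
    Subgroup.map_subtype_commutator _
  obtain ⟨q, hq, e⟩ := hmap.symm ▸ hgD
  rwa [show (⟨g, hg⟩ : ↥(commutator G24)) = q from (Subtype.ext e).symm]

/-- A homomorphism from the group of order two. -/
def signHom {M : Type*} [Monoid M] (s : M) (h : s * s = 1) : ℤˣ →* M where
  toFun u := if u = 1 then 1 else s
  map_one' := if_pos rfl
  map_mul' u v := by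
    rcases Int.units_eq_one_or u with rfl | rfl <;> rcases Int.units_eq_one_or v with rfl | rfl <;> simp [h]

theorem signHom_neg {M : Type*} [Monoid M] (s : M) (h : s * s = 1) : signHom s h (-1) = s := by
  show (if (-1 : ℤˣ) = 1 then 1 else s) = s
  exact if_neg (by decide)

theorem x0_inv : (x24 0)⁻¹ = x24 0 := inv_eq_of_mul_eq_one_right (x24_sq (by norm_num))

/-- A group generated by an element of order dividing three is an image of the integers mod three. -/
theorem surj_zmod3 {K : Type*} [Group K] (g : K) (hg : g ^ 3 = 1) (hgen : ∀ x : K, x ∈ Subgroup.zpowers g) :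
    ∃ π : Multiplicative (ZMod 3) →* K, Function.Surjective π := by
  let e : ℤ →+ Additive K := zmultiplesHom (Additive K) (Additive.ofMul g)
  have he : e (3 : ℕ) = 0 := by
    show ((3 : ℕ) : ℤ) • Additive.ofMul g = 0
    rw [natCast_zsmul, ← ofMul_pow, hg, ofMul_one]
  refine ⟨AddMonoidHom.toMultiplicativeLeft (ZMod.lift 3 ⟨e, he⟩), fun x => ?_⟩
  obtain ⟨m, rfl⟩ := Subgroup.mem_zpowers_iff.mp (hgen x)
  refine ⟨Multiplicative.ofAdd (m : ZMod 3), ?_⟩
  show Additive.toMul (ZMod.lift 3 ⟨e, he⟩ (m : ZMod 3)) = g ^ m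
  rw [ZMod.lift_coe]
  rfl

section

variable {Γ : Type} [Group Γ] (σ : Γ →* ↥(commutator G24))

/-- Pairs lying over conjugate elements. -/
def twin : Subgroup (Γ × Γ) where
  carrier := {p | (σ p.1 : G24) = x24 0 * σ p.2 * x24 0}
  one_mem' := by
    show (σ 1 : G24) = x24 0 * (σ 1 : G24) * x24 0
    simp [x24_sq]
  mul_mem' := by
    intro p q hp hq
    show ((σ (p.1 * q.1) : ↥(commutator G24)) : G24) = x24 0 * (σ (p.2 * q.2) : G24) * x24 0
    rw [map_mul, map_mul, Subgroup.coe_mul, Subgroup.coe_mul, hp, hq]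
    calc x24 0 * (σ p.2 : G24) * x24 0 * (x24 0 * σ q.2 * x24 0)
        = x24 0 * (σ p.2 : G24) * (x24 0 * x24 0) * σ q.2 * x24 0 := by group
      _ = _ := by rw [x24_sq (by norm_num), mul_one]; group
  inv_mem' := by
    intro p hp
    show ((σ p.1⁻¹ : ↥(commutator G24)) : G24) = x24 0 * (σ p.2⁻¹ : G24) * x24 0
    have hp' : (σ p.1 : G24) = x24 0 * σ p.2 * x24 0 := hp
    rw [map_inv, map_inv, Subgroup.coe_inv, Subgroup.coe_inv, hp', mul_inv_rev, mul_inv_rev,
      x0_inv, mul_assoc]

theorem mem_twin {p : Γ × Γ} : p ∈ twin σ ↔ (σ p.1 : G24) = x24 0 * σ p.2 * x24 0 := Iff.rfl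

/-- The perfect part of the pairs. -/
def core : Subgroup (Γ × Γ) := ⁅twin σ, twin σ⁆

theorem core_le : core σ ≤ twin σ := Subgroup.commutator_le_self _

theorem twin_swap {p : Γ × Γ} (hp : p ∈ twin σ) : p.swap ∈ twin σ := by
  rw [mem_twin] at hp ⊢
  rw [Prod.fst_swap, Prod.snd_swap, hp]
  calc (σ p.2 : G24) = x24 0 * x24 0 * σ p.2 * (x24 0 * x24 0) := by
        rw [x24_sq (by norm_num), one_mul, mul_one]
    _ = _ := by group

theorem core_swap {p : Γ × Γ} (hp : p ∈ core σ) : p.swap ∈ core σ := by
  have h : core σ ≤ (core σ).comap (MulEquiv.prodComm (M := Γ) (N := Γ)).toMonoidHom := by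
    rw [core, Subgroup.commutator_le]
    intro u hu v hv
    rw [Subgroup.mem_comap, map_commutatorElement]
    exact Subgroup.commutator_mem_commutator (twin_swap σ hu) (twin_swap σ hv)
  exact h hp

/-- The exchange of the two coordinates. -/
def exchange : MulAut ↥(core σ) where
  toFun p := ⟨(p : Γ × Γ).swap, core_swap σ p.2⟩
  invFun p := ⟨(p : Γ × Γ).swap, core_swap σ p.2⟩
  left_inv _ := Subtype.ext (Prod.swap_swap _)
  right_inv _ := Subtype.ext (Prod.swap_swap _)
  map_mul' _ _ := rfl

theorem exchange_sq : exchange σ * exchange σ = 1 := MulEquiv.ext fun _ => Subtype.ext (Prod.swap_swap _)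

/-- The action of the group of order two. -/
def act2 : ℤˣ →* MulAut ↥(core σ) := signHom (exchange σ) (exchange_sq σ)

/-- The extended group. -/
abbrev Big : Type := ↥(core σ) ⋊[act2 σ] ℤˣ

/-- The map onto the derived group. -/
def down : ↥(core σ) →* G24 :=
  (commutator G24).subtype.comp (σ.comp ((MonoidHom.fst Γ Γ).comp (core σ).subtype))

/-- The map onto Fi24. -/
def bigMap : Big σ →* G24 :=
  SemidirectProduct.lift (down σ) (signHom (x24 0) (x24_sq (by norm_num))) fun u => by
    refine MonoidHom.ext fun p => ?_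
    rcases Int.units_eq_one_or u with rfl | rfl
    · simp
    · have hp := mem_twin σ |>.1 (core_le σ p.2)
      show (σ (p : Γ × Γ).2 : G24) =
        signHom (x24 0) _ (-1) * (σ (p : Γ × Γ).1 : G24) * (signHom (x24 0) _ (-1))⁻¹
      rw [signHom_neg, x0_inv, hp]
      calc (σ (p : Γ × Γ).2 : G24) = x24 0 * x24 0 * σ (p : Γ × Γ).2 * (x24 0 * x24 0) := by
            rw [x24_sq (by norm_num), one_mul, mul_one]
        _ = _ := by group

theorem bigMap_apply (x : Big σ) : bigMap σ x = down σ x.left * signHom (x24 0) (x24_sq (by norm_num)) x.right := rfl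

theorem sign_bigMap (x : Big σ) : sign24 (bigMap σ x) = x.right := by
  rw [bigMap_apply, map_mul, show sign24 (down σ x.left) = 1 from sign_one_iff.1 (σ _).2, one_mul]
  rcases Int.units_eq_one_or x.right with h | h <;> rw [h]
  · rw [map_one, map_one]
  · rw [signHom_neg, sign24_x]

theorem eq_inl {x : Big σ} (h : x.right = 1) : x = SemidirectProduct.inl x.left :=
  SemidirectProduct.ext (by simp) (by simp [h])

end

/-- The kernel of a finite stem extension of the derived group of Fi24 is an image of the integers mod three. -/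
theorem stem_bound {Γ : Type} [Group Γ] [Finite Γ] (σ : Γ →* ↥(commutator G24)) (hσ : Cfsg.IsStemExtension σ) :
    ∃ f : Multiplicative (ZMod 3) →* σ.ker, Function.Surjective f := by
  obtain ⟨hs, hz, hc⟩ := hσ
  -- the source is perfect
  have hperf : commutator Γ = ⊤ := by
    rw [eq_top_iff]
    intro g _
    have h : σ g ∈ (commutator Γ).map σ := by
      rw [commutator_def Γ, Subgroup.map_commutator, Subgroup.map_top_of_surjective σ hs, ← commutator_def,
        C24_perfect]
      trivial
    obtain ⟨c, hc', e⟩ := h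
    have hk : c⁻¹ * g ∈ commutator Γ := hc (by rw [MonoidHom.mem_ker, map_mul, map_inv, e, inv_mul_cancel])
    simpa using mul_mem hc' hk
  have hcen : ∀ {a b : Γ}, σ a = 1 → a * b = b * a := fun ha =>
    ((Subgroup.mem_center_iff.1 (hz (MonoidHom.mem_ker.2 ha))) _).symm
  have hzero : ∀ p ∈ twin σ, σ p.1 = 1 → σ p.2 = 1 := by
    intro p hp h1
    rw [mem_twin, h1, OneMemClass.coe_one] at hp
    refine Subtype.ext ?_
    calc (σ p.2 : G24) = x24 0 * x24 0 * σ p.2 * (x24 0 * x24 0) := by
          rw [x24_sq (by norm_num), one_mul, mul_one]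
      _ = x24 0 * (x24 0 * σ p.2 * x24 0) * x24 0 := by group
      _ = _ := by rw [← hp, mul_one, x24_sq (by norm_num)]; rfl
  have hfst : Function.Surjective ((MonoidHom.fst Γ Γ).comp (core σ).subtype) := by
    intro g
    have h : (core σ).map (MonoidHom.fst Γ Γ) = ⊤ := by
      have ht : (twin σ).map (MonoidHom.fst Γ Γ) = ⊤ := by
        rw [eq_top_iff]
        intro a _
        obtain ⟨b, hb⟩ := hs ⟨x24 0 * σ a * x24 0, by
          rw [sign_one_iff, map_mul, map_mul, sign24_x, sign_one_iff.1 (σ a).2]; decide⟩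
        refine ⟨(a, b), ?_, rfl⟩
        rw [SetLike.mem_coe, mem_twin]
        show (σ a : G24) = x24 0 * (σ b : G24) * x24 0
        rw [hb]
        calc (σ a : G24) = x24 0 * x24 0 * σ a * (x24 0 * x24 0) := by
              rw [x24_sq (by norm_num), one_mul, mul_one]
          _ = _ := by group
      rw [core, Subgroup.map_commutator, ht, ← commutator_def, hperf]
    obtain ⟨p, hp, e⟩ := h.ge (Subgroup.mem_top g)
    exact ⟨⟨p, hp⟩, e⟩
  have hcore : core σ ≤ ⁅core σ, core σ⁆ := by
    conv_lhs => rw [core]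
    rw [Subgroup.commutator_le]
    intro p hp q hq
    obtain ⟨p', hp'⟩ := hfst p.1
    obtain ⟨q', hq'⟩ := hfst q.1
    have key : ∀ r ∈ twin σ, ∀ r' : ↥(core σ), (r' : Γ × Γ).1 = r.1 →
        ∀ b : Γ × Γ, Commute (r * (r' : Γ × Γ)⁻¹) b := by
      intro r hr r' e b
      have h1 : σ (r * (r' : Γ × Γ)⁻¹).1 = 1 := by simp [e]
      have h2 := hzero _ (mul_mem hr (inv_mem (core_le σ r'.2))) h1
      exact Prod.ext (hcen h1) (hcen h2)
    have cp := key p hp p' hp'
    have cq := key q hq q' hq'
    have : ⁅p, q⁆ = ⁅(p' : Γ × Γ), (q' : Γ × Γ)⁆ := by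
      set z := p * (p' : Γ × Γ)⁻¹ with hz_def
      set w := q * (q' : Γ × Γ)⁻¹ with hw_def
      have ep : p = z * p' := by rw [hz_def, inv_mul_cancel_right]
      have eq' : q = w * q' := by rw [hw_def, inv_mul_cancel_right]
      rw [ep, eq', commutatorElement_def, commutatorElement_def]
      calc z * p' * (w * q') * (z * (p' : Γ × Γ))⁻¹ * (w * (q' : Γ × Γ))⁻¹
          = z * ((p' : Γ × Γ) * w * q' * (p' : Γ × Γ)⁻¹) * z⁻¹ * (q' : Γ × Γ)⁻¹ * w⁻¹ := by group
        _ = (p' : Γ × Γ) * w * q' * (p' : Γ × Γ)⁻¹ * (q' : Γ × Γ)⁻¹ * w⁻¹ := by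
          rw [(cp _).eq, mul_inv_cancel_right]
        _ = (p' : Γ × Γ) * (w * ((q' : Γ × Γ) * (p' : Γ × Γ)⁻¹ * (q' : Γ × Γ)⁻¹)) * w⁻¹ := by group
        _ = (p' : Γ × Γ) * ((q' : Γ × Γ) * (p' : Γ × Γ)⁻¹ * (q' : Γ × Γ)⁻¹) := by
          rw [(cq _).eq, ← mul_assoc (p' : Γ × Γ), mul_inv_cancel_right]
        _ = _ := by group
    rw [this]
    exact Subgroup.commutator_mem_commutator p'.2 q'.2
  have : Finite (Big σ) := Finite.of_equiv _ SemidirectProduct.equivProd.symm
  have hright : ∀ x : Big σ, x ∈ evenPart (bigMap σ) ↔ x.right = 1 := fun x => by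
    rw [mem_evenPart, sign_bigMap]
  have hrange : evenPart (bigMap σ) =
      (⊤ : Subgroup ↥(core σ)).map (SemidirectProduct.inl : _ →* Big σ) := by
    ext x
    rw [hright]
    refine ⟨fun h => ⟨x.left, trivial, (eq_inl σ h).symm⟩, ?_⟩
    rintro ⟨p, -, rfl⟩
    exact SemidirectProduct.right_inl _
  let X : Ext (Big σ) :=
    { π := bigMap σ
      τ := SemidirectProduct.inr (-1)
      surj := fun g => by
        have main : ∀ g : G24, sign24 g = 1 → ∃ p, down σ p = g := fun g hg => by
          obtain ⟨a, ha⟩ := hs ⟨g, sign_one_iff.2 hg⟩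
          obtain ⟨p, hp⟩ := hfst a
          exact ⟨p, by rw [down, MonoidHom.comp_apply, MonoidHom.comp_apply, hp, ha]; rfl⟩
        rcases Int.units_eq_one_or (sign24 g) with h | h
        · obtain ⟨p, hp⟩ := main g h
          exact ⟨SemidirectProduct.inl p, by rw [bigMap, SemidirectProduct.lift_inl, hp]⟩
        · obtain ⟨p, hp⟩ := main (g * x24 0) (by rw [map_mul, h, sign24_x]; decide)
          exact ⟨SemidirectProduct.inl p * SemidirectProduct.inr (-1), by
            rw [map_mul, bigMap, SemidirectProduct.lift_inl, SemidirectProduct.lift_inr, hp, signHom_neg, mul_assoc,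
              x24_sq (by norm_num), mul_one]⟩
      central := fun k hk d hd => by
        have hkr : k.right = 1 := by rw [← sign_bigMap, hk, map_one]
        rw [eq_inl σ hkr] at hk ⊢
        rw [eq_inl σ ((hright d).1 hd)]
        rw [bigMap, SemidirectProduct.lift_inl] at hk
        have h1 : σ (k.left : Γ × Γ).1 = 1 := Subtype.ext hk
        refine Commute.map ?_ _
        exact Subtype.ext (Prod.ext (hcen h1) (hcen (hzero _ (core_le σ k.left.2) h1)))
      perfect := by
        rw [hrange, ← Subgroup.map_commutator]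
        refine Subgroup.map_mono fun p _ => ?_
        obtain ⟨q, hq, e⟩ := (Subgroup.map_subtype_commutator (core σ)).symm ▸ hcore p.2
        rwa [show p = q from (Subtype.ext e).symm]
      τ_sq := by rw [← map_mul, show (-1 : ℤˣ) * -1 = 1 from rfl, map_one]
      τ_map := by rw [bigMap, SemidirectProduct.lift_inr, signHom_neg] }
  obtain ⟨u, hu, hu3, hgen⟩ := X.exists_generator
  have hur : u.right = 1 := by
    have := sign_bigMap σ u
    rw [show bigMap σ u = 1 from hu, map_one] at this
    exact this.symm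
  have hu' := eq_inl σ hur
  let g : ↥σ.ker := ⟨(u.left : Γ × Γ).1, by
    have h : bigMap σ u = 1 := hu
    rw [hu', bigMap, SemidirectProduct.lift_inl] at h
    exact MonoidHom.mem_ker.2 (Subtype.ext h)⟩
  have hg3 : g ^ 3 = 1 := by
    refine Subtype.ext ?_
    have h := hu3
    rw [hu', ← map_pow, ← map_one (SemidirectProduct.inl : _ →* Big σ)] at h
    exact congrArg (fun p : ↥(core σ) => (p : Γ × Γ).1) (SemidirectProduct.inl_injective h)
  refine surj_zmod3 g hg3 fun k => ?_
  obtain ⟨p, hp⟩ := hfst k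
  have hk : bigMap σ (SemidirectProduct.inl p) = 1 := by
    rw [bigMap, SemidirectProduct.lift_inl, down, MonoidHom.comp_apply, MonoidHom.comp_apply, hp,
      MonoidHom.mem_ker.1 k.2, map_one]
  obtain ⟨m, hm⟩ := Subgroup.mem_zpowers_iff.1 (hgen _ hk)
  refine Subgroup.mem_zpowers_iff.2 ⟨m, Subtype.ext ?_⟩
  rw [hu', ← map_zpow] at hm
  have := congrArg (fun p : ↥(core σ) => (p : Γ × Γ).1) (SemidirectProduct.inl_injective hm)
  rw [← hp]
  exact this

end

end Cfsg.Agent.FiTwentyFourCover
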